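import Cfsg.Agent.Lib.Co2Out.Local
import Cfsg.Agent.Lib.Co2Out.ChainData

/-!
Two relations of the translation and the involution, and their failure for powers of the
translation.
-/

set_option autoImplicit false
set_option maxRecDepth 20000
set_option Elab.async false

namespace Cfsg.Agent.Co2Out.Chains

open Cfsg Cfsg.Agent.Golay.Basic Cfsg.Agent.Golay.M24 Cfsg.Agent.Golay.Perm Cfsg.Agent.LeechAut.Gens
  Cfsg.Agent.LeechAut.Cross Cfsg.Agent.LeechAut.Conway23 Cfsg.Agent.Co2Out.Elements

/-- The product of the segments `a ^ (n * m) * c`. -/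
def segEl (m : ℕ) (ns : List ℕ) : G2 := (ns.map fun n => gA ^ (n * m) * gC).prod

/-- The exponents of the first word. -/
def ns1 : List ℕ := [1, 2, 4]

/-- The exponents of the second word. -/
def ns2 : List ℕ := [1, 2]

theorem segEl_append (m : ℕ) (u v : List ℕ) : segEl m (u ++ v) = segEl m u * segEl m v := by
  simp [segEl, List.prod_append]

theorem segEl_replicate (m : ℕ) (ns : List ℕ) : ∀ k, segEl m (List.replicate k ns).flatten = segEl m ns ^ k
  | 0 => by simp [segEl]
  | k + 1 => by
    rw [List.replicate_succ, List.flatten_cons, segEl_append, segEl_replicate m ns k, pow_succ']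

/-- The coordinates moved by a power of the translation. -/
def rot (j : ℕ) (l : List ℤ) : List ℤ :=
  (List.range 24).map fun i => if i = 23 then l.getD 23 0 else l.getD ((i + 23 - j % 23) % 23) 0

theorem rot_positions : ∀ j < 23, ∀ i < 24,
    ix ((transl ^ ((23 - j) % 23)) (pt i)) = if i = 23 then 23 else (i + 23 - j) % 23 := by decide +kernel

theorem lst_rot (j : ℕ) (v : leechLattice) :
    lst ((((gA ^ j : G2) : Co0) • v : leechLattice) : Cfsg.Agent.Leech.Index.Vec) =
      rot j (lst (v : Cfsg.Agent.Leech.Index.Vec)) := by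
  refine List.map_congr_left fun i hi => ?_
  rw [List.mem_range] at hi
  rw [Subgroup.coe_pow, show ((gA : G2) : Co0) = Cfsg.Agent.LeechAut.Co1.permHom tau from rfl, ← map_pow,
    Cfsg.Agent.LeechAut.Co1.permHom_smul]
  have h23 : transl ^ 23 = 1 := Equiv.ext fun p => by
    cases p with
    | none => exact (transl_pow 23).2
    | some x =>
      rw [(transl_pow 23).1, show ((23 : ℕ) : ZMod 23) = 0 from rfl, add_zero]
      rfl
  have e : ((tau ^ j : Cfsg.M24) : Equiv.Perm GolayPt)⁻¹ = transl ^ ((23 - j % 23) % 23) := by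
    rw [Subgroup.coe_pow]
    show (transl ^ j)⁻¹ = _
    rw [inv_eq_iff_mul_eq_one, ← pow_add, ← pow_mod_orderOf]
    have hd : orderOf transl ∣ 23 := orderOf_dvd_of_pow_eq_one h23
    rw [pow_mod_orderOf]
    have h0 : (j + (23 - j % 23) % 23) % 23 = 0 := by omega
    obtain ⟨q, hq⟩ := Nat.dvd_of_mod_eq_zero h0
    rw [hq, pow_mul, h23, one_pow]
  have h := rot_positions (j % 23) (Nat.mod_lt _ (by norm_num)) i hi
  rw [e, ← getD_lst (v : Cfsg.Agent.Leech.Index.Vec), h]
  by_cases hi' : i = 23
  · rw [if_pos hi', if_pos hi']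
  · rw [if_neg hi', if_neg hi']

/-- A packed vector. -/
def unp (n : ℕ) : List ℤ := (List.range 24).map fun i => (((n / 32 ^ i % 32 : ℕ)) : ℤ) - 16

/-- Checking a chain of images. -/
def chainB (m : ℕ) : List ℕ → List ℤ → List (List ℤ) → Bool
  | [], _, [] => true
  | n :: ns, x, y :: ys => (rot (n * m) (cL x) == y) && chainB m ns y ys
  | _, _, _ => false

theorem chain_spec (m : ℕ) : ∀ (ns : List ℕ) (ys : List (List ℤ)) (v : leechLattice),
    chainB m ns (lst (v : Cfsg.Agent.Leech.Index.Vec)) ys = true →
    lst ((((segEl m ns.reverse) : G2) : Co0) • v : leechLattice).1 =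
      ys.getLastD (lst (v : Cfsg.Agent.Leech.Index.Vec))
  | [], [], v, _ => by simp [segEl]
  | [], _ :: _, v, h => by simp [chainB] at h
  | _ :: _, [], v, h => by simp [chainB] at h
  | n :: ns, y :: ys, v, h => by
    simp only [chainB, Bool.and_eq_true, beq_iff_eq] at h
    obtain ⟨h1, h2⟩ := h
    rw [← lst_cEl, ← lst_rot, ← mul_smul] at h1
    rw [← h1] at h2
    have h3 := chain_spec m ns ys _ h2
    rw [List.reverse_cons, segEl_append, Subgroup.coe_mul, mul_smul,
      show segEl m [n] = gA ^ (n * m) * gC by simp [segEl], List.getLastD_cons, ← h1]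
    exact h3

/-- The indices of a base, with the extra point. -/
def baseIdx : List ℕ := [23, 0, 1, 2, 3, 4, 7, 5]

theorem none_idx : ix (none : GolayPt) ∈ baseIdx := by decide

theorem base_idx : ∀ p ∈ basePre 7, ix p ∈ baseIdx := by decide +kernel

/-- An element fixing the frame on a base is trivial. -/
theorem eq_one_of_base {g : G2} (h : ∀ p, ix p ∈ baseIdx → (g : Co0) • frame p = frame p) : g = 1 := by
  obtain ⟨π, he, hn⟩ := Cfsg.Agent.Co2Out.Local.perm_of_fix (MulAction.mem_stabilizer_iff.1 g.2) (h none none_idx)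
  have hfix : ∀ p, ix p ∈ baseIdx → (π : Equiv.Perm GolayPt) p = p := by
    intro p hp
    have e := congrArg (fun z : leechLattice => (z : Cfsg.Agent.Leech.Index.Vec) ((π : Equiv.Perm GolayPt) p))
      (h p hp)
    simp only [he, Cfsg.Agent.LeechAut.Co1.permHom_smul, frame_coe, Equiv.Perm.inv_def,
      Equiv.symm_apply_apply, Pi.single_eq_same] at e
    by_contra hne
    rw [Pi.single_eq_of_ne hne] at e
    norm_num at e
  have hmem : (π : Equiv.Perm GolayPt) ∈ fixers Cfsg.M24 (basePre 7) :=
    ⟨π.2, fun x hx => hfix x (base_idx x hx)⟩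
  rw [(fixers Cfsg.M24 (basePre 7)).eq_bot_of_card_eq (card_fixers_seven le_rfl), Subgroup.mem_bot] at hmem
  refine Subtype.ext ?_
  rw [he, show π = 1 from Subtype.ext hmem, map_one]
  rfl

/-- A chain that returns. -/
def returns (k : ℕ) (ns : List ℕ) (L : List (List ℕ)) (i : ℕ) : Bool :=
  chainB 1 (List.replicate k ns.reverse).flatten (frameL i) ((L.getD i []).map unp) &&
    (((L.getD i []).map unp).getLastD (frameL i) == frameL i)

theorem pow_eq_one {k : ℕ} {ns : List ℕ} {L : List (List ℕ)}
    (h : ∀ i ∈ baseIdx, returns k ns L i = true) : segEl 1 ns ^ k = 1 := by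
  refine eq_one_of_base fun p hp => Subtype.ext (lst_injective ?_)
  have h' := h _ hp
  simp only [returns, Bool.and_eq_true, beq_iff_eq] at h'
  obtain ⟨h1, h3⟩ := h'
  rw [← lst_frame] at h1 h3
  have h4 := chain_spec 1 _ _ (frame p) h1
  rw [List.reverse_flatten, List.map_replicate, List.reverse_replicate, List.reverse_reverse,
    segEl_replicate] at h4
  exact h4.trans h3

/-- A chain that does not return. -/
def moves (m k : ℕ) (ns : List ℕ) (i : ℕ) (ys : List (List ℤ)) : Bool :=
  decide (i < 24) && chainB m (List.replicate k ns.reverse).flatten (frameL i) ys &&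
    !(ys.getLastD (frameL i) == frameL i)

theorem pow_ne_one {m k i : ℕ} {ns : List ℕ} {ys : List (List ℤ)}
    (h : moves m k ns i ys = true) : segEl m ns ^ k ≠ 1 := by
  intro e
  simp only [moves, Bool.and_eq_true, decide_eq_true_eq, Bool.not_eq_true', beq_eq_false_iff_ne] at h
  obtain ⟨⟨hi, h1⟩, h3⟩ := h
  have hl : lst ((frame (pt i) : leechLattice) : Cfsg.Agent.Leech.Index.Vec) = frameL i := by
    rw [lst_frame, ix_pt hi]
  rw [← hl] at h1 h3
  have h4 := chain_spec m _ _ (frame (pt i)) h1
  rw [List.reverse_flatten, List.map_replicate, List.reverse_replicate, List.reverse_reverse,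
    segEl_replicate, e, Subgroup.coe_one, one_smul] at h4
  exact h3 h4.symm

theorem ret1_23 : returns 15 ns1 ChainData.orb1 23 = true := by decide +kernel

theorem ret1_0 : returns 15 ns1 ChainData.orb1 0 = true := by decide +kernel

theorem ret1_1 : returns 15 ns1 ChainData.orb1 1 = true := by decide +kernel

theorem ret1_2 : returns 15 ns1 ChainData.orb1 2 = true := by decide +kernel

theorem ret1_3 : returns 15 ns1 ChainData.orb1 3 = true := by decide +kernel

theorem ret1_4 : returns 15 ns1 ChainData.orb1 4 = true := by decide +kernel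

theorem ret1_7 : returns 15 ns1 ChainData.orb1 7 = true := by decide +kernel

theorem ret1_5 : returns 15 ns1 ChainData.orb1 5 = true := by decide +kernel

theorem ret2_23 : returns 12 ns2 ChainData.orb2 23 = true := by decide +kernel

theorem ret2_0 : returns 12 ns2 ChainData.orb2 0 = true := by decide +kernel

theorem ret2_1 : returns 12 ns2 ChainData.orb2 1 = true := by decide +kernel

theorem ret2_2 : returns 12 ns2 ChainData.orb2 2 = true := by decide +kernel

theorem ret2_3 : returns 12 ns2 ChainData.orb2 3 = true := by decide +kernel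

theorem ret2_4 : returns 12 ns2 ChainData.orb2 4 = true := by decide +kernel

theorem ret2_7 : returns 12 ns2 ChainData.orb2 7 = true := by decide +kernel

theorem ret2_5 : returns 12 ns2 ChainData.orb2 5 = true := by decide +kernel

theorem ret1 : ∀ i ∈ baseIdx, returns 15 ns1 ChainData.orb1 i = true := by
  intro i hi
  simp only [baseIdx, List.mem_cons, List.not_mem_nil, or_false] at hi
  rcases hi with rfl | rfl | rfl | rfl | rfl | rfl | rfl | rfl
  · exact ret1_23
  · exact ret1_0
  · exact ret1_1
  · exact ret1_2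
  · exact ret1_3
  · exact ret1_4
  · exact ret1_7
  · exact ret1_5

theorem ret2 : ∀ i ∈ baseIdx, returns 12 ns2 ChainData.orb2 i = true := by
  intro i hi
  simp only [baseIdx, List.mem_cons, List.not_mem_nil, or_false] at hi
  rcases hi with rfl | rfl | rfl | rfl | rfl | rfl | rfl | rfl
  · exact ret2_23
  · exact ret2_0
  · exact ret2_1
  · exact ret2_2
  · exact ret2_3
  · exact ret2_4
  · exact ret2_7
  · exact ret2_5

theorem mov_0 : moves 2 15 ns1 (ChainData.movedAt.getD 0 0)
    ((ChainData.moved.getD 0 []).map unp) = true := by decide +kernel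

theorem mov_1 : moves 3 15 ns1 (ChainData.movedAt.getD 1 0)
    ((ChainData.moved.getD 1 []).map unp) = true := by decide +kernel

theorem mov_2 : moves 4 15 ns1 (ChainData.movedAt.getD 2 0)
    ((ChainData.moved.getD 2 []).map unp) = true := by decide +kernel

theorem mov_3 : moves 5 15 ns1 (ChainData.movedAt.getD 3 0)
    ((ChainData.moved.getD 3 []).map unp) = true := by decide +kernel

theorem mov_4 : moves 6 15 ns1 (ChainData.movedAt.getD 4 0)
    ((ChainData.moved.getD 4 []).map unp) = true := by decide +kernel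

theorem mov_5 : moves 7 15 ns1 (ChainData.movedAt.getD 5 0)
    ((ChainData.moved.getD 5 []).map unp) = true := by decide +kernel

theorem mov_6 : moves 8 12 ns2 (ChainData.movedAt.getD 6 0)
    ((ChainData.moved.getD 6 []).map unp) = true := by decide +kernel

theorem mov_7 : moves 9 15 ns1 (ChainData.movedAt.getD 7 0)
    ((ChainData.moved.getD 7 []).map unp) = true := by decide +kernel

theorem mov_8 : moves 10 15 ns1 (ChainData.movedAt.getD 8 0)
    ((ChainData.moved.getD 8 []).map unp) = true := by decide +kernel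

theorem mov_9 : moves 11 15 ns1 (ChainData.movedAt.getD 9 0)
    ((ChainData.moved.getD 9 []).map unp) = true := by decide +kernel

theorem mov_10 : moves 12 15 ns1 (ChainData.movedAt.getD 10 0)
    ((ChainData.moved.getD 10 []).map unp) = true := by decide +kernel

theorem mov_11 : moves 13 15 ns1 (ChainData.movedAt.getD 11 0)
    ((ChainData.moved.getD 11 []).map unp) = true := by decide +kernel

theorem mov_12 : moves 14 15 ns1 (ChainData.movedAt.getD 12 0)
    ((ChainData.moved.getD 12 []).map unp) = true := by decide +kernel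

theorem mov_13 : moves 15 15 ns1 (ChainData.movedAt.getD 13 0)
    ((ChainData.moved.getD 13 []).map unp) = true := by decide +kernel

theorem mov_14 : moves 16 15 ns1 (ChainData.movedAt.getD 14 0)
    ((ChainData.moved.getD 14 []).map unp) = true := by decide +kernel

theorem mov_15 : moves 17 15 ns1 (ChainData.movedAt.getD 15 0)
    ((ChainData.moved.getD 15 []).map unp) = true := by decide +kernel

theorem mov_16 : moves 18 15 ns1 (ChainData.movedAt.getD 16 0)
    ((ChainData.moved.getD 16 []).map unp) = true := by decide +kernel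

theorem mov_17 : moves 19 15 ns1 (ChainData.movedAt.getD 17 0)
    ((ChainData.moved.getD 17 []).map unp) = true := by decide +kernel

theorem mov_18 : moves 20 15 ns1 (ChainData.movedAt.getD 18 0)
    ((ChainData.moved.getD 18 []).map unp) = true := by decide +kernel

theorem mov_19 : moves 21 12 ns2 (ChainData.movedAt.getD 19 0)
    ((ChainData.moved.getD 19 []).map unp) = true := by decide +kernel

theorem mov_20 : moves 22 15 ns1 (ChainData.movedAt.getD 20 0)
    ((ChainData.moved.getD 20 []).map unp) = true := by decide +kernel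

theorem rel1 : segEl 1 ns1 ^ 15 = 1 := pow_eq_one ret1

theorem rel2 : segEl 1 ns2 ^ 12 = 1 := pow_eq_one ret2

theorem fails (m : ℕ) (h1 : 2 ≤ m) (h2 : m < 23) : segEl m ns1 ^ 15 ≠ 1 ∨ segEl m ns2 ^ 12 ≠ 1 := by
  interval_cases m
  · exact Or.inl (pow_ne_one mov_0)
  · exact Or.inl (pow_ne_one mov_1)
  · exact Or.inl (pow_ne_one mov_2)
  · exact Or.inl (pow_ne_one mov_3)
  · exact Or.inl (pow_ne_one mov_4)
  · exact Or.inl (pow_ne_one mov_5)
  · exact Or.inr (pow_ne_one mov_6)
  · exact Or.inl (pow_ne_one mov_7)
  · exact Or.inl (pow_ne_one mov_8)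
  · exact Or.inl (pow_ne_one mov_9)
  · exact Or.inl (pow_ne_one mov_10)
  · exact Or.inl (pow_ne_one mov_11)
  · exact Or.inl (pow_ne_one mov_12)
  · exact Or.inl (pow_ne_one mov_13)
  · exact Or.inl (pow_ne_one mov_14)
  · exact Or.inl (pow_ne_one mov_15)
  · exact Or.inl (pow_ne_one mov_16)
  · exact Or.inl (pow_ne_one mov_17)
  · exact Or.inl (pow_ne_one mov_18)
  · exact Or.inr (pow_ne_one mov_19)
  · exact Or.inl (pow_ne_one mov_20)

end Cfsg.Agent.Co2Out.Chains
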