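import Cfsg.Agent.Lib.Co2Out.Elements

/-!
A subgroup containing the three permutations and the involution moves the first frame vector to
more than 2048 vectors.
-/

set_option autoImplicit false
set_option maxRecDepth 20000
set_option Elab.async false

namespace Cfsg.Agent.Co2Out.Orbit

open Cfsg Cfsg.Agent.Golay.Basic Cfsg.Agent.LeechAut.Gens Cfsg.Agent.LeechAut.Cross
  Cfsg.Agent.Co2Out.Elements

/-! ### Sets of numbers as binary trees -/

inductive T where
  | nil
  | node (l r : T)

def T.left : T → T
  | .nil => .nil
  | .node l _ => l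

def T.right : T → T
  | .nil => .nil
  | .node _ r => r

def T.has : ℕ → ℕ → T → Bool
  | 0, _, .nil => false
  | 0, _, .node _ _ => true
  | n + 1, k, t => if k % 2 = 0 then T.has n (k / 2) t.left else T.has n (k / 2) t.right

def T.ins : ℕ → ℕ → T → Option T
  | 0, _, .nil => some (.node .nil .nil)
  | 0, _, .node _ _ => none
  | n + 1, k, t =>
    if k % 2 = 0 then
      match T.ins n (k / 2) t.left with
      | none => none
      | some t' => some (.node t' t.right)
    else
      match T.ins n (k / 2) t.right with
      | none => none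
      | some t' => some (.node t.left t')

theorem ins_spec : ∀ (n k : ℕ) (t t' : T), T.ins n k t = some t' →
    T.has n k t = false ∧ T.has n k t' = true ∧ ∀ j, T.has n j t = true → T.has n j t' = true
  | 0, _, .nil, t', h => by
    simp only [T.ins, Option.some.injEq] at h
    subst h
    simp [T.has]
  | 0, _, .node _ _, t', h => by simp [T.ins] at h
  | n + 1, k, t, t', h => by
    unfold T.ins at h
    by_cases hk : k % 2 = 0
    · rw [if_pos hk] at h
      cases e : T.ins n (k / 2) t.left with
      | none => rw [e] at h; simp at h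
      | some u =>
        rw [e] at h
        simp only [Option.some.injEq] at h
        subst h
        obtain ⟨h1, h2, h3⟩ := ins_spec n (k / 2) t.left u e
        refine ⟨by simp [T.has, hk, h1], by simp [T.has, hk, T.left, h2], fun j hj => ?_⟩
        by_cases hj2 : j % 2 = 0
        · simp [T.has, hj2, T.left] at hj ⊢
          exact h3 _ hj
        · simpa [T.has, hj2, T.right] using hj
    · rw [if_neg hk] at h
      cases e : T.ins n (k / 2) t.right with
      | none => rw [e] at h; simp at h
      | some u =>
        rw [e] at h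
        simp only [Option.some.injEq] at h
        subst h
        obtain ⟨h1, h2, h3⟩ := ins_spec n (k / 2) t.right u e
        refine ⟨by simp [T.has, hk, h1], by simp [T.has, hk, T.right, h2], fun j hj => ?_⟩
        by_cases hj2 : j % 2 = 0
        · simpa [T.has, hj2, T.left] using hj
        · simp [T.has, hj2, T.right] at hj ⊢
          exact h3 _ hj

/-! ### The vectors -/

/-- A coordinate of the vector of a key. -/
def val (k i : ℕ) : ℤ :=
  if i = 23 then 2 else if i = k % 32 then 4 else if (k / 32).testBit i then -2 else 0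

/-- The vector of a key. -/
def vk (k : ℕ) : List ℤ := (List.range 24).map (val k)

/-- The key of a vector. -/
def enc (l : List ℤ) : ℕ := (l.foldr (fun x m => (if x = -2 then 1 else 0) + 2 * m) 0) * 32 + l.idxOf 4

/-- The image of a mask. -/
def maskImg : List ℕ → ℕ → ℕ
  | [], _ => 0
  | t :: ts, m => (if m % 2 = 1 then 2 ^ t else 0) ||| maskImg ts (m / 2)

theorem testBit_maskImg : ∀ (ts : List ℕ) (m q : ℕ),
    (maskImg ts m).testBit q = true ↔ ∃ i < ts.length, ts.getD i 0 = q ∧ m.testBit i = true
  | [], m, q => by simp [maskImg]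
  | t :: ts, m, q => by
    rw [maskImg, Nat.testBit_or, Bool.or_eq_true, testBit_maskImg ts]
    constructor
    · rintro (h | ⟨i, hi, e, hb⟩)
      · by_cases hm : m % 2 = 1
        · rw [if_pos hm, Nat.testBit_two_pow] at h
          exact ⟨0, by simp, by simpa using of_decide_eq_true h, by simp [Nat.testBit_zero, hm]⟩
        · simp [if_neg hm] at h
      · exact ⟨i + 1, by simpa using hi, by simpa using e, by rw [Nat.testBit_succ]; exact hb⟩
    · rintro ⟨i, hi, e, hb⟩
      cases i with
      | zero =>
        left
        rw [Nat.testBit_zero] at hb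
        rw [if_pos (of_decide_eq_true hb), Nat.testBit_two_pow]
        simpa using e
      | succ j => exact Or.inr ⟨j, by simpa using hi, by simpa using e, by rw [← Nat.testBit_succ]; exact hb⟩

/-- The image of a key. -/
def img (ts : List ℕ) (k : ℕ) : ℕ := maskImg ts (k / 32) * 32 + ts.getD (k % 32) 0 % 32

theorem permL_vk (inv ts : List ℕ) (h : (inv.length == 24) && (ts.length == 24) &&
      ((List.range 24).all fun q => decide (inv.getD q 0 < 24) && (List.range 24).all fun i =>
        decide (ts.getD i 0 = q) == decide (i = inv.getD q 0)) &&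
      ((List.range 24).all fun q => decide (inv.getD q 0 = 23) == decide (q = 23)) &&
      ((List.range 24).all fun i => decide (ts.getD i 0 < 24)) = true)
    {k : ℕ} (hk : k % 32 < 24) : permL inv (vk k) = vk (img ts k) ∧ img ts k % 32 < 24 := by
  simp only [Bool.and_eq_true, beq_iff_eq, List.all_eq_true, List.mem_range, decide_eq_true_eq,
    decide_eq_decide] at h
  obtain ⟨⟨⟨⟨hl, hl'⟩, hinv⟩, h23⟩, hts⟩ := h
  have he : img ts k % 32 = ts.getD (k % 32) 0 := by
    have := hts _ hk
    rw [img, Nat.mul_add_mod_self_right]
    omega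
  refine ⟨List.ext_getElem (by simp [permL, vk, hl]) fun q hq _ => ?_, he ▸ hts _ hk⟩
  have hq' : q < 24 := by simpa [permL, hl] using hq
  obtain ⟨hj, hpre⟩ := hinv q hq'
  rw [List.getD_eq_getElem _ _ (by omega)] at hj hpre
  simp only [permL, vk, List.getElem_map, List.getElem_range]
  rw [List.getD_eq_getElem _ _ (by simpa using hj), List.getElem_map, List.getElem_range]
  have h23' := h23 q hq'
  rw [List.getD_eq_getElem _ _ (by omega)] at h23'
  have hz : inv[q]'(by omega) = k % 32 ↔ q = img ts k % 32 := by
    rw [he, eq_comm, ← hpre _ hk, eq_comm]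
  have hb : (img ts k / 32).testBit q = (k / 32).testBit (inv[q]'(by omega)) := by
    rw [Bool.eq_iff_iff, show img ts k / 32 = maskImg ts (k / 32) by
      unfold img; omega, testBit_maskImg]
    exact ⟨fun ⟨i, hi, e, b⟩ => by rwa [(hpre i (by omega)).1 e] at b,
      fun b => ⟨_, by omega, (hpre _ (by omega)).2 rfl, b⟩⟩
  unfold val
  simp only [hz, hb, h23']

/-- The forward tables. -/
def fwd (σ : Cfsg.M24) : List ℕ := (List.range 24).map fun i => ix ((σ : Equiv.Perm GolayPt) (pt i))

/-- The three tables. -/
def fA : List ℕ := fwd aM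

/-- The doubling. -/
def fB : List ℕ := fwd bM

/-- The permutation of order 5. -/
def fP : List ℕ := fwd piM

/-- Closing up, depth first. -/
def run : ℕ → List ℕ → T → List ℕ → List ℕ
  | 0, _, _, out => out
  | _ + 1, [], _, out => out
  | n + 1, k :: q, t, out =>
    match T.ins 29 k t with
    | none => run n q t out
    | some t' => run n (img fA k :: img fB k :: img fP k :: q) t' (k :: out)

/-- The first key: the image of the frame vector under the involution. -/
def k0 : ℕ := enc (cL (frameL 23))

/-- The keys found. -/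
def keys : List ℕ := run 7000 [k0] .nil []

theorem keys_facts : keys.length ≥ 2049 ∧ (keys.all fun k => enc (vk k) == k) = true ∧
    cL (frameL 23) = vk k0 ∧ k0 % 32 < 24 := by decide +kernel

theorem run_spec (P : ℕ → Prop) (hA : ∀ k, P k → P (img fA k)) (hB : ∀ k, P k → P (img fB k))
    (hP : ∀ k, P k → P (img fP k)) : ∀ (n : ℕ) (q : List ℕ) (t : T) (out : List ℕ),
    (∀ k ∈ q, P k) → (∀ k ∈ out, P k ∧ T.has 29 k t = true) → out.Nodup →
    (∀ k ∈ run n q t out, P k) ∧ (run n q t out).Nodup
  | 0, _, _, _, _, h, hn => ⟨fun k hk => (h k hk).1, hn⟩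
  | _ + 1, [], _, _, _, h, hn => ⟨fun k hk => (h k hk).1, hn⟩
  | n + 1, k :: q, t, out, hq, h, hn => by
    unfold run
    cases e : T.ins 29 k t with
    | none => exact run_spec P hA hB hP n q t out (fun j hj => hq j (List.mem_cons_of_mem _ hj)) h hn
    | some t' =>
      obtain ⟨h1, h2, h3⟩ := ins_spec 29 k t t' e
      have hk := hq k List.mem_cons_self
      refine run_spec P hA hB hP n _ t' _ ?_ ?_ (List.nodup_cons.2 ⟨fun hmem => ?_, hn⟩)
      · intro j hj
        simp only [List.mem_cons] at hj
        rcases hj with rfl | rfl | rfl | hj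
        · exact hA k hk
        · exact hB k hk
        · exact hP k hk
        · exact hq j (List.mem_cons_of_mem _ hj)
      · intro j hj
        rcases List.mem_cons.1 hj with rfl | hj
        · exact ⟨hk, h2⟩
        · exact ⟨(h j hj).1, h3 j (h j hj).2⟩
      · rw [(h k hmem).2] at h1
        exact absurd h1 (by decide)

/-- The orbit has more than 2048 members. -/
theorem orbit_big (H : Subgroup G2) (hA : gA ∈ H) (hB : gB ∈ H) (hC : gC ∈ H) (hP : gP ∈ H) :
    2049 ≤ (MulAction.orbit H (frame none : leechLattice)).ncard := by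
  classical
  let P : ℕ → Prop := fun k => k % 32 < 24 ∧
    ∃ g ∈ H, lst (((g : Co0) • frame none : leechLattice) : Cfsg.Agent.Leech.Index.Vec) = vk k
  have step : ∀ (g : ℕ) (inv ts : List ℕ), gl g ∈ H → al g = permL inv →
      (∀ k, k % 32 < 24 → permL inv (vk k) = vk (img ts k) ∧ img ts k % 32 < 24) →
      ∀ k, P k → P (img ts k) := by
    rintro g inv ts hg hal hperm k ⟨hk, x, hx, e⟩
    refine ⟨(hperm k hk).2, gl g * x, H.mul_mem hg hx, ?_⟩
    rw [Subgroup.coe_mul, mul_smul, lst_gl, e, hal, (hperm k hk).1]
  have h0 : P k0 := ⟨keys_facts.2.2.2, gC, hC, by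
    rw [show (gC : Co0) = cEl from rfl, lst_cEl, lst_frame]
    exact keys_facts.2.2.1⟩
  obtain ⟨hall, hnd⟩ := run_spec P (step 0 posA fA hA rfl fun k => permL_vk posA fA (by decide +kernel))
    (step 2 posB fB hB rfl fun k => permL_vk posB fB (by decide +kernel))
    (step 5 posP fP hP rfl fun k => permL_vk posP fP (by decide +kernel)) 7000 [k0] .nil []
    (by simpa using h0) (by simp) List.nodup_nil
  refine le_trans keys_facts.1 ?_
  rw [← List.toFinset_card_of_nodup (show keys.Nodup from hnd), ← Set.ncard_coe_finset]
  refine Set.ncard_le_ncard_of_injOn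
    (fun k => if h : P k then (h.2.choose : Co0) • frame none else frame none) ?_ ?_ ?_
  · intro k hk
    rw [Finset.mem_coe, List.mem_toFinset] at hk
    show (if h : P k then _ else _) ∈ _
    rw [dif_pos (hall k hk)]
    exact ⟨⟨_, (hall k hk).2.choose_spec.1⟩, rfl⟩
  · intro k hk j hj e
    rw [Finset.mem_coe, List.mem_toFinset] at hk hj
    simp only [dif_pos (hall k hk), dif_pos (hall j hj)] at e
    have hen := keys_facts.2.1
    simp only [List.all_eq_true, beq_iff_eq] at hen
    rw [← hen k hk, ← hen j hj, ← (hall k hk).2.choose_spec.2, ← (hall j hj).2.choose_spec.2, e]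
  · haveI : Finite G2 := Nat.finite_of_card_ne_zero (by
      rw [Cfsg.Agent.LeechAut.Conway23.card_stab32 Cfsg.Agent.LeechAut.Conway23.norm2]; norm_num)
    exact Set.finite_range _

end Cfsg.Agent.Co2Out.Orbit
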