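import Cfsg.Agent.Lib.Co2Out.Local
import Cfsg.Agent.Lib.Co2Out.Orbit

/-!
The translation, the doubling and the involution generate the stabiliser of a minimal vector.
-/

set_option autoImplicit false
set_option maxRecDepth 20000

namespace Cfsg.Agent.Co2Out.Generate

open scoped Pointwise
open Cfsg Cfsg.Agent.Golay.Basic Cfsg.Agent.Leech.Index
  Cfsg.Agent.LeechAut.Gens Cfsg.Agent.LeechAut.Basic Cfsg.Agent.LeechAut.Cross
  Cfsg.Agent.LeechAut.Conway23 Cfsg.Agent.LeechAut.Co1 Cfsg.Agent.Co2Out.Elements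
  Cfsg.Agent.Co2Out.Local Finset

/-- The number of conjugates of a Sylow subgroup of prime order. -/
theorem sylow_count {G : Type*} [Group G] [Finite G] (H : Subgroup G) {p : ℕ} [Fact p.Prime] {x : G}
    (hx : orderOf x = p) (hp2 : ¬ p ^ 2 ∣ Nat.card G) (hxH : x ∈ H) :
    ∃ n, n % p = 1 ∧ Nat.card H = n * Nat.card ↥(Subgroup.normalizer (Subgroup.zpowers x : Set G) ⊓ H) := by
  have hp : p.Prime := Fact.out
  let x' : H := ⟨x, hxH⟩
  have hx' : orderOf x' = p := by rw [← Subgroup.orderOf_coe]; exact hx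
  have hf : (Nat.card H).factorization p = 1 := Cfsg.Agent.LeechAut.Crit23.fact_one hp
    (fun h => hp2 (h.trans (Subgroup.card_subgroup_dvd_card H))) (hx' ▸ orderOf_dvd_natCard x')
  let P : Sylow p H := Sylow.ofCard (Subgroup.zpowers x') (by rw [Nat.card_zpowers, hx', hf, pow_one])
  refine ⟨Nat.card (Sylow p H), ?_, ?_⟩
  · have h := card_sylow_modEq_one p H
    unfold Nat.ModEq at h
    rw [h, Nat.one_mod_eq_one]
    exact hp.one_lt.ne'
  have e : Subgroup.normalizer ((P : Subgroup H) : Set H) =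
      (Subgroup.normalizer (Subgroup.zpowers x : Set G)).subgroupOf H := by
    ext h
    rw [Subgroup.mem_subgroupOf, Subgroup.mem_normalizer_iff, Subgroup.mem_normalizer_iff]
    have hz : ∀ y : H, y ∈ (P : Subgroup H) ↔ (y : G) ∈ Subgroup.zpowers x := fun y => by
      rw [← Subgroup.mem_map_iff_mem H.subtype_injective,
        show ((P : Subgroup H).map H.subtype) = Subgroup.zpowers x by
          show (Subgroup.zpowers x').map H.subtype = _
          rw [MonoidHom.map_zpowers]
          rfl]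
      rfl
    constructor
    · intro hh g
      constructor
      · intro hg
        have hgH : g ∈ H := Subgroup.zpowers_le.2 hxH hg
        exact (hz _).1 ((hh ⟨g, hgH⟩).1 ((hz _).2 hg))
      · intro hg
        have hgH : g ∈ H := by
          have := H.mul_mem (H.mul_mem (H.inv_mem h.2) (Subgroup.zpowers_le.2 hxH hg)) h.2
          simpa [mul_assoc] using this
        exact (hz _).1 ((hh ⟨g, hgH⟩).2 ((hz _).2 hg))
    · intro hh y
      rw [hz, hz, hh (y : G)]
      rfl
  rw [P.card_eq_index_normalizer, show Subgroup.normalizer (P : Set H) = _ from e, ← Nat.card_congr (Subgroup.subgroupOfEquivOfLe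
      (inf_le_right : Subgroup.normalizer (Subgroup.zpowers x : Set G) ⊓ H ≤ H)).toEquiv,
    Subgroup.inf_subgroupOf_right, Subgroup.index_mul_card]

/-! ### The normalisers -/

theorem card_norm_A {H : Subgroup G2} (hA : gA ∈ H) (hB : gB ∈ H) :
    Nat.card ↥(Subgroup.normalizer (Subgroup.zpowers gA : Set G2) ⊓ H) = 253 := by
  classical
  haveI := finite_G2
  set N := Subgroup.normalizer (Subgroup.zpowers gA : Set G2) ⊓ H
  have hA' : gA ∈ N := ⟨Subgroup.le_normalizer (Subgroup.mem_zpowers gA), hA⟩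
  have hB' : gB ∈ N := by
    refine ⟨mem_normalizer_of_conj ?_, hB⟩
    rw [rel_BA]
    exact Subgroup.npow_mem_zpowers gA 2
  have h1 : 253 ∣ Nat.card N := by
    have e1 : 23 ∣ Nat.card N := order_A ▸ Subgroup.orderOf_dvd_natCard N hA'
    have e2 : 11 ∣ Nat.card N := order_B ▸ Subgroup.orderOf_dvd_natCard N hB'
    exact Nat.Coprime.mul_dvd_of_dvd_of_dvd (m := 23) (n := 11) (by norm_num) e1 e2
  have h2 : Nat.card N ≤ 253 := by
    have hsurj : ∀ x : N, ∃ ij : Fin 23 × Fin 11, (x : G2) = gA ^ (ij.1 : ℕ) * gB ^ (ij.2 : ℕ) := fun x => by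
      obtain ⟨i, j, e⟩ := normalizer_A ((Subgroup.mem_normalizer_iff.1 x.2.1 gA).1 (Subgroup.mem_zpowers gA))
      exact ⟨(i, j), e⟩
    choose f hf using hsurj
    have h := Nat.card_le_card_of_injective f fun a b e => Subtype.ext (by rw [hf a, hf b, e])
    rwa [Nat.card_prod, Nat.card_fin, Nat.card_fin] at h
  exact le_antisymm h2 (Nat.le_of_dvd Nat.card_pos h1)
where
  mem_normalizer_of_conj {G : Type} [Group G] [Finite G] {g x : G}
      (h : g * x * g⁻¹ ∈ Subgroup.zpowers x) : g ∈ Subgroup.normalizer (Subgroup.zpowers x : Set G) := by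
    have hle : (Subgroup.zpowers x).map (MulAut.conj g).toMonoidHom ≤ Subgroup.zpowers x := by
      rw [MonoidHom.map_zpowers, Subgroup.zpowers_le]
      exact h
    have e : (Subgroup.zpowers x).map (MulAut.conj g).toMonoidHom = Subgroup.zpowers x :=
      Subgroup.eq_of_le_of_card_ge hle (Subgroup.card_map_of_injective (MulAut.conj g).injective).ge
    rw [Subgroup.mem_normalizer_iff]
    intro y
    conv_rhs => rw [← e]
    exact (Subgroup.mem_map_iff_mem (f := (MulAut.conj g).toMonoidHom) (MulAut.conj g).injective).symm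

theorem card_norm_B_dvd {H : Subgroup G2} (hB : gB ∈ H) :
    ∃ e, e ∣ 10 ∧ Nat.card ↥(Subgroup.normalizer (Subgroup.zpowers gB : Set G2) ⊓ H) = 11 * e := by
  classical
  haveI := finite_G2
  set N := Subgroup.normalizer (Subgroup.zpowers gB : Set G2) ⊓ H
  let B := Subgroup.zpowers gB
  let f : N →* MulAut B := B.normalizerMonoidHom.comp (Subgroup.inclusion inf_le_left)
  have hker : f.ker.map N.subtype = B := by
    ext x
    constructor
    · rintro ⟨y, hy, rfl⟩
      have h : Subgroup.inclusion inf_le_left y ∈ B.normalizerMonoidHom.ker := MonoidHom.mem_ker.1 hy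
      rw [Subgroup.normalizerMonoidHom_ker, Subgroup.mem_subgroupOf, Subgroup.mem_centralizer_iff] at h
      exact centralizer_B (h gB (Subgroup.mem_zpowers gB)).symm
    · intro hx
      have hxN : x ∈ N := ⟨Subgroup.le_normalizer hx, Subgroup.zpowers_le.2 hB hx⟩
      refine ⟨⟨x, hxN⟩, ?_, rfl⟩
      show B.normalizerMonoidHom (Subgroup.inclusion inf_le_left ⟨x, hxN⟩) = 1
      rw [← MonoidHom.mem_ker, Subgroup.normalizerMonoidHom_ker, Subgroup.mem_subgroupOf,
        Subgroup.mem_centralizer_iff]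
      intro y hy
      obtain ⟨i, rfl⟩ := Subgroup.mem_zpowers_iff.1 hx
      obtain ⟨j, rfl⟩ := Subgroup.mem_zpowers_iff.1 hy
      exact zpow_mul_comm gB j i
  have hk : Nat.card f.ker = 11 := by
    rw [← Subgroup.card_map_of_injective N.subtype_injective (K := f.ker), hker, Nat.card_zpowers, order_B]
  have hrange : Nat.card f.range ∣ 10 := by
    haveI : IsCyclic B := inferInstance
    refine (Subgroup.card_subgroup_dvd_card f.range).trans ?_
    rw [IsCyclic.card_mulAut, Nat.card_zpowers, order_B, Nat.totient_prime (by norm_num)]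
  have hN : Nat.card N = 11 * Nat.card f.range := by
    rw [Subgroup.card_eq_card_quotient_mul_card_subgroup f.ker, hk, mul_comm,
      Nat.card_congr (QuotientGroup.quotientKerEquivRange f).toEquiv]
  exact ⟨_, hrange, hN⟩

theorem card_norm_B {H : Subgroup G2} (hB : gB ∈ H) (hC : gC ∈ H) :
    ∃ e, (e = 2 ∨ e = 10) ∧ Nat.card ↥(Subgroup.normalizer (Subgroup.zpowers gB : Set G2) ⊓ H) = 11 * e := by
  classical
  haveI := finite_G2
  obtain ⟨e, he, hN⟩ := card_norm_B_dvd (H := H) hB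
  have hC' : gC ∈ Subgroup.normalizer (Subgroup.zpowers gB : Set G2) ⊓ H := by
    refine ⟨card_norm_A.mem_normalizer_of_conj ?_, hC⟩
    rw [rel_CB]
    exact Subgroup.inv_mem _ (Subgroup.mem_zpowers gB)
  have h2 : 2 ∣ e := by
    have h : 2 ∣ 11 * e := hN ▸ order_C ▸ Subgroup.orderOf_dvd_natCard _ hC'
    exact (Nat.Coprime.dvd_of_dvd_mul_left (by norm_num) h)
  refine ⟨e, ?_, hN⟩
  have := Nat.le_of_dvd (by norm_num) he
  revert h2 he
  clear hN
  interval_cases e <;> norm_num

/-! ### The point stabiliser -/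

/-- The three permutations. -/
def K : Subgroup G2 := Subgroup.closure {gA, gB, gP}

theorem piM_none : (piM : Equiv.Perm GolayPt) none = none := by decide +kernel

theorem order_P : orderOf gP = 5 := by
  haveI : Fact (Nat.Prime 5) := ⟨by norm_num⟩
  refine orderOf_eq_prime ?_ ?_
  · have h := word_eq (w := List.replicate 5 5) (w' := []) (by decide +kernel)
    rw [wordEl, List.map_replicate, List.prod_replicate] at h
    simpa [wordEl, gl] using h
  · have h := word_ne (w := [5]) (i := 0) (by norm_num) (by decide +kernel)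
    simpa [wordEl, gl] using h

theorem order_AAP : orderOf (gA * gA * gP) = 8 := by
  haveI : Fact (Nat.Prime 2) := ⟨Nat.prime_two⟩
  refine orderOf_eq_prime_pow (p := 2) (n := 2) ?_ ?_
  · have h := word_ne (w := [0, 0, 5, 0, 0, 5, 0, 0, 5, 0, 0, 5]) (i := 0) (by norm_num) (by decide +kernel)
    simpa [wordEl, gl, pow_succ, mul_assoc] using h
  · have h := word_eq (w := [0, 0, 5, 0, 0, 5, 0, 0, 5, 0, 0, 5, 0, 0, 5, 0, 0, 5, 0, 0, 5, 0, 0, 5])
      (w' := []) (by decide +kernel)
    simpa [wordEl, gl, pow_succ, mul_assoc] using h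

theorem card_K : Nat.card K = 10200960 ∧ ∀ g ∈ K, (g : Co0) • frame none = frame none := by
  classical
  haveI := finite_G2
  let S : Subgroup Cfsg.M24 := MulAction.stabilizer Cfsg.M24 (none : GolayPt)
  let Φ : S →* G2 :=
    { toFun := fun σ => ⟨permHom (σ : Cfsg.M24), MulAction.mem_stabilizer_iff.2 (permHom_fix2 σ.2)⟩
      map_one' := Subtype.ext (map_one permHom)
      map_mul' := fun a b => Subtype.ext (map_mul permHom _ _) }
  have hle : K ≤ Φ.range := by
    refine (Subgroup.closure_le _).2 ?_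
    rintro g (rfl | rfl | rfl)
    · exact ⟨⟨aM, rfl⟩, rfl⟩
    · exact ⟨⟨bM, rfl⟩, rfl⟩
    · exact ⟨⟨piM, piM_none⟩, rfl⟩
  refine ⟨?_, fun g hg => ?_⟩
  · have hd : Nat.card K ∣ 10200960 := (Subgroup.card_dvd_of_le hle).trans
      ((Subgroup.card_range_dvd Φ).trans (Cfsg.Agent.Golay.Trans.card_stabilizer_point none).dvd)
    have hA : gA ∈ K := Subgroup.subset_closure (Or.inl rfl)
    have hB : gB ∈ K := Subgroup.subset_closure (Or.inr (Or.inl rfl))
    have hP : gP ∈ K := Subgroup.subset_closure (Or.inr (Or.inr rfl))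
    haveI := Cfsg.Agent.LeechAut.Crit23.fact23
    obtain ⟨n, hn, e⟩ := sylow_count K order_A (by rw [card_G2]; norm_num) hA
    rw [card_norm_A hA hB] at e
    have h5 : 5 ∣ n := by
      have h : 5 ∣ n * 253 := e ▸ order_P ▸ Subgroup.orderOf_dvd_natCard K hP
      exact Nat.Coprime.dvd_of_dvd_mul_right (by norm_num) h
    have h8 : 8 ∣ n := by
      have h : 8 ∣ n * 253 :=
        e ▸ order_AAP ▸ Subgroup.orderOf_dvd_natCard K (K.mul_mem (K.mul_mem hA hA) hP)
      exact Nat.Coprime.dvd_of_dvd_mul_right (by norm_num) h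
    rw [e] at hd ⊢
    have hn' : n ∣ 40320 := Nat.dvd_of_mul_dvd_mul_right (by norm_num : 0 < 253) hd
    obtain ⟨m, rfl⟩ : 40 ∣ n := Nat.Coprime.mul_dvd_of_dvd_of_dvd (m := 5) (n := 8) (by norm_num) h5 h8
    have hm : m ∣ 1008 := Nat.dvd_of_mul_dvd_mul_left (by norm_num : 0 < 40) (by simpa using hn')
    haveI := Cfsg.Agent.LeechAut.Crit23.fact11
    obtain ⟨s, hs, e'⟩ := sylow_count K order_B (by rw [card_G2]; norm_num) hB
    obtain ⟨f, hf, hfc⟩ := card_norm_B_dvd (H := K) hB
    rw [hfc, e] at e'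
    have key : ∀ m < 1009, 40 * m % 23 = 1 → m ∣ 1008 → m = 1008 ∨ m = 42 := by decide +kernel
    rcases key m (by have := Nat.le_of_dvd (by norm_num) hm; omega) hn hm with rfl | rfl
    · norm_num
    · exfalso
      have hf' := Nat.le_of_dvd (by norm_num) hf
      have hs' : 11 * f * s = 425040 := by linarith
      revert hf
      interval_cases f <;> first | omega | norm_num
  · obtain ⟨σ, rfl⟩ := hle hg
    refine Subtype.ext (funext fun q => ?_)
    show ((permHom (σ : Cfsg.M24) • frame none : leechLattice) : Vec) q = _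
    rw [permHom_smul, frame_coe]
    have hσ : ((σ : Cfsg.M24) : Equiv.Perm GolayPt) none = none := σ.2
    by_cases hq : q = none
    · rw [hq, show ((σ : Cfsg.M24) : Equiv.Perm GolayPt)⁻¹ none = none by
        rw [Equiv.Perm.inv_eq_iff_eq, hσ]]
    · rw [Pi.single_eq_of_ne hq, Pi.single_eq_of_ne (fun e => hq (by
        rw [Equiv.Perm.inv_eq_iff_eq, hσ] at e; exact e))]

/-- A word for the permutation of order 5. -/
theorem gP_eq : gP = wordEl Data.piWord := by
  rw [show gP = wordEl [5] by simp [wordEl, gl]]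
  exact word_eq (by decide +kernel)

theorem word_mem (H : Subgroup G2) (hA : gA ∈ H) (hB : gB ∈ H) (hC : gC ∈ H) :
    ∀ w : List ℕ, (∀ k ∈ w, k ≠ 5) → wordEl w ∈ H
  | [], _ => by simp [wordEl]
  | k :: w, h => by
    rw [show wordEl (k :: w) = gl k * wordEl w from List.prod_cons]
    refine H.mul_mem ?_ (word_mem H hA hB hC w fun j hj => h j (List.mem_cons_of_mem _ hj))
    have h5 := h k List.mem_cons_self
    match k with
    | 0 => exact hA
    | 1 => exact H.inv_mem hA
    | 2 => exact hB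
    | 3 => exact H.inv_mem hB
    | 4 => exact hC
    | 5 => exact absurd rfl h5
    | n + 6 => exact hC

theorem key_table' : ∀ i : Fin 12, ∀ j : Fin 5, ∀ l : Fin 3, 2049 ≤ 2 ^ i.1 * (3 ^ j.1 * 5 ^ l.1) →
    2 ^ i.1 * (3 ^ j.1 * 5 ^ l.1) * 40320 % 23 = 1 →
    (2 ^ i.1 * (3 ^ j.1 * 5 ^ l.1) * 463680 % 11 = 1 ∨ 2 ^ i.1 * (3 ^ j.1 * 5 ^ l.1) * 92736 % 11 = 1) →
    2 ^ i.1 * (3 ^ j.1 * 5 ^ l.1) = 4147200 := by decide +kernel

theorem arith {T n s f : ℕ} (hbig : 2049 * 10200960 ≤ 10200960 * T) (e : 10200960 * T = n * 253)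
    (hn : n % 23 = 1) (e' : 10200960 * T = s * (11 * f)) (hs : s % 11 = 1) (hf : f = 2 ∨ f = 10)
    (key : 2049 ≤ T → T * 40320 % 23 = 1 → (T * 463680 % 11 = 1 ∨ T * 92736 % 11 = 1) → T = 4147200) :
    T = 4147200 := by
  have h1 : n = T * 40320 := by linarith
  refine key (Nat.le_of_mul_le_mul_left (by linarith) (by norm_num : 0 < 10200960)) (h1 ▸ hn) ?_
  rcases hf with rfl | rfl
  · left
    have h2 : s = T * 463680 := by linarith
    exact h2 ▸ hs
  · right
    have h2 : s = T * 92736 := by linarith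
    exact h2 ▸ hs

/-- The three elements generate. -/
theorem eq_top (H : Subgroup G2) (hA : gA ∈ H) (hB : gB ∈ H) (hC : gC ∈ H) : H = ⊤ := by
  classical
  haveI := finite_G2
  haveI := Cfsg.Agent.LeechAut.Crit23.fact23
  haveI := Cfsg.Agent.LeechAut.Crit23.fact11
  have hP : gP ∈ H := gP_eq ▸ word_mem H hA hB hC _ (by decide)
  have hKH : K ≤ H := (Subgroup.closure_le _).2 (by rintro g (rfl | rfl | rfl) <;> assumption)
  obtain ⟨t, ht⟩ := Subgroup.card_dvd_of_le hKH
  rw [card_K.1] at ht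
  have hd : Nat.card H ∣ 42305421312000 := card_G2 ▸ Subgroup.card_subgroup_dvd_card H
  have hbig : 2049 * 10200960 ≤ Nat.card H := by
    rw [← Subgroup.index_mul_card (MulAction.stabilizer H (frame none : leechLattice)),
      MulAction.index_stabilizer]
    refine Nat.mul_le_mul (Orbit.orbit_big H hA hB hC hP) ?_
    rw [← card_K.1]
    refine Nat.card_le_card_of_injective
      (fun g : K => (⟨⟨g.1, hKH g.2⟩, MulAction.mem_stabilizer_iff.2 (card_K.2 g.1 g.2)⟩ :
        MulAction.stabilizer H (frame none : leechLattice))) ?_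
    intro a b e
    exact Subtype.ext (congrArg (fun z : MulAction.stabilizer H (frame none : leechLattice) => (z : H).1) e)
  obtain ⟨n, hn, e⟩ := sylow_count H order_A (by rw [card_G2]; norm_num) hA
  rw [card_norm_A hA hB] at e
  obtain ⟨f, hf, hfc⟩ := card_norm_B (H := H) hB hC
  obtain ⟨s, hs, e'⟩ := sylow_count H order_B (by rw [card_G2]; norm_num) hB
  rw [hfc] at e'
  rw [ht] at hd hbig e e'
  have ht' : t ∣ 2 ^ 11 * (3 ^ 4 * 5 ^ 2) :=
    Nat.dvd_of_mul_dvd_mul_left (by norm_num : 0 < 10200960) (by norm_num; exact hd)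
  obtain ⟨u, v, hu, hv, rfl⟩ := Nat.dvd_mul.1 ht'
  obtain ⟨v1, v2, hv1, hv2, rfl⟩ := Nat.dvd_mul.1 hv
  obtain ⟨i, hi, rfl⟩ := (Nat.dvd_prime_pow Nat.prime_two).1 hu
  obtain ⟨j, hj, rfl⟩ := (Nat.dvd_prime_pow Nat.prime_three).1 hv1
  obtain ⟨l, hl, rfl⟩ := (Nat.dvd_prime_pow (by norm_num : Nat.Prime 5)).1 hv2
  have key : 2049 ≤ 2 ^ i * (3 ^ j * 5 ^ l) → 2 ^ i * (3 ^ j * 5 ^ l) * 40320 % 23 = 1 →
      (2 ^ i * (3 ^ j * 5 ^ l) * 463680 % 11 = 1 ∨ 2 ^ i * (3 ^ j * 5 ^ l) * 92736 % 11 = 1) →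
      2 ^ i * (3 ^ j * 5 ^ l) = 4147200 :=
    key_table' ⟨i, Nat.lt_succ_of_le hi⟩ ⟨j, Nat.lt_succ_of_le hj⟩ ⟨l, Nat.lt_succ_of_le hl⟩
  generalize hT : 2 ^ i * (3 ^ j * 5 ^ l) = T at hd hbig e e' ht key
  have hT' : T = 4147200 := arith hbig e hn e' hs hf key
  refine Subgroup.eq_top_of_card_eq H ?_
  rw [ht, hT', card_G2]

end Cfsg.Agent.Co2Out.Generate
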