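import Cfsg.Agent.Lib.Co2Out.Elements

/-!
The normaliser of the translation and the centraliser of the doubling in the stabiliser of a
minimal vector.
-/

set_option autoImplicit false
set_option maxRecDepth 20000

namespace Cfsg.Agent.Co2Out.Local

open scoped Pointwise
open Cfsg Cfsg.Agent.Golay.Basic Cfsg.Agent.Golay.M24 Cfsg.Agent.Leech.Basic
  Cfsg.Agent.Leech.Index Cfsg.Agent.LeechAut.Gens Cfsg.Agent.LeechAut.Basic Cfsg.Agent.LeechAut.Cross
  Cfsg.Agent.LeechAut.Conway23 Cfsg.Agent.LeechAut.Co1 Cfsg.Agent.Co2Out.Elements Finset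

theorem finite_G2 : Finite G2 := Nat.finite_of_card_ne_zero (by rw [card_stab32 norm2]; norm_num)

theorem card_G2 : Nat.card G2 = 42305421312000 := (card_stab32 norm2).trans (by norm_num)

theorem order_A : orderOf gA = 23 := by rw [← Subgroup.orderOf_coe]; exact orderOf_g23

theorem rel_BA : gB * gA * gB⁻¹ = gA ^ 2 := by
  have h := word_eq (w := [2, 0, 3]) (w' := [0, 0]) (by decide +kernel)
  simp only [wordEl, List.map_cons, List.map_nil, List.prod_cons, List.prod_nil, mul_one] at h
  simpa [gl, mul_assoc, pow_two] using h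

theorem rel_CC : gC * gC = 1 := by
  have h := word_eq (w := [4, 4]) (w' := []) (by decide +kernel)
  simpa [wordEl, gl] using h

theorem rel_CB : gC * gB * gC⁻¹ = gB⁻¹ := by
  have h := word_eq (w := [4, 2, 4]) (w' := [3]) (by decide +kernel)
  rw [inv_eq_of_mul_eq_one_right rel_CC]
  simpa [wordEl, gl, mul_assoc] using h

theorem ne_C : gC ≠ 1 := by
  have h := word_ne (w := [4]) (i := 0) (by norm_num) (by decide +kernel)
  simpa [wordEl, gl] using h

theorem order_B : orderOf gB = 11 := by
  haveI : Fact (Nat.Prime 11) := ⟨by norm_num⟩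
  refine orderOf_eq_prime ?_ ?_
  · have h := word_eq (w := List.replicate 11 2) (w' := []) (by decide +kernel)
    rw [wordEl, List.map_replicate, List.prod_replicate] at h
    simpa [wordEl, gl] using h
  · have h := word_ne (w := [2]) (i := 1) (by norm_num) (by decide +kernel)
    simpa [wordEl, gl] using h

theorem order_C : orderOf gC = 2 := by
  haveI : Fact (Nat.Prime 2) := ⟨Nat.prime_two⟩
  exact orderOf_eq_prime (by rw [pow_two, rel_CC]) ne_C

theorem double_pow (j : ℕ) : ∀ p : GolayPt, (double ^ j) p = mulFun ((2 : ZMod 23) ^ j) p := by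
  induction j with
  | zero => intro p; cases p <;> simp [mulFun]
  | succ n ih =>
    intro p
    rw [pow_succ', Equiv.Perm.mul_apply, ih, pow_succ']
    cases p with
    | none => rfl
    | some x =>
      show some ((2 : ZMod 23) * ((2 : ZMod 23) ^ n * x)) = some (2 * (2 : ZMod 23) ^ n * x)
      rw [mul_assoc]

theorem qr_pow : ∀ k : ZMod 23, k ^ 11 = 1 → ∃ j < 11, k = (2 : ZMod 23) ^ j := by decide +kernel

/-- An element normalising the subgroup of order 23 is a product of powers. -/
theorem normalizer_A {x : G2} (hx : x * gA * x⁻¹ ∈ Subgroup.zpowers gA) :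
    ∃ (i : Fin 23) (j : Fin 11), x = gA ^ (i : ℕ) * gB ^ (j : ℕ) := by
  haveI := finite_G2
  obtain ⟨k, hk⟩ := mem_powers_iff_mem_zpowers.2 hx
  have hk' : (x : Co0) * g23 * (x : Co0)⁻¹ = g23 ^ k := (congrArg Subtype.val hk).symm
  obtain ⟨π, b, he, hn, hval⟩ := normalizes flat2 (by norm_num) (MulAction.mem_stabilizer_iff.1 x.2) hk'
  have h11 := norm_exp flat2 (by norm_num) (MulAction.mem_stabilizer_iff.1 x.2) hk'
  obtain ⟨j, hj, hkj⟩ := qr_pow (k : ZMod 23) (by
    rw [← Nat.cast_pow, ← Nat.cast_one, ZMod.natCast_eq_natCast_iff']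
    exact h11)
  refine ⟨⟨b.val, b.val_lt⟩, ⟨j, hj⟩, Subtype.ext ?_⟩
  rw [he]
  show permHom π = permHom tau ^ b.val * permHom bM ^ j
  rw [← map_pow, ← map_pow, ← map_mul]
  refine congrArg permHom (Subtype.ext (Equiv.ext fun p => ?_))
  show (π : Equiv.Perm GolayPt) p = (transl ^ b.val * double ^ j) p
  rw [Equiv.Perm.mul_apply, double_pow]
  cases p with
  | none => rw [hn]; exact ((transl_pow b.val).2).symm
  | some t =>
    show _ = (transl ^ b.val) (some ((2 : ZMod 23) ^ j * t))
    rw [hval, (transl_pow b.val).1, ZMod.natCast_zmod_val, hkj]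

/-! ### Vectors fixed by the doubling -/

/-- The discrete logarithm. -/
def lg (t : ZMod 23) : ℕ :=
  (List.range 11).findIdx fun j => decide ((2 : ZMod 23) ^ j = t) || decide (5 * (2 : ZMod 23) ^ j = t)

/-- The four orbits of the doubling. -/
def cls : GolayPt → Fin 4
  | none => 0
  | some t => if t = 0 then 1 else if (2 : ZMod 23) ^ lg t = t then 2 else 3

/-- A vector constant on the orbits. -/
def fv (a b q n : ℤ) : Vec := fun p => ![a, b, q, n] (cls p)

theorem orbit_rep : ∀ t : ZMod 23, t ≠ 0 →
    (cls (some t) = 2 ∧ t = (2 : ZMod 23) ^ lg t) ∨ (cls (some t) = 3 ∧ t = (2 : ZMod 23) ^ lg t * 5) := by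
  decide +kernel

theorem eq_fv {y : Vec} (hy : ∀ p, y (mulFun 2 p) = y p) :
    y = fv (y none) (y (some 0)) (y (some 1)) (y (some 5)) := by
  have hj : ∀ (j : ℕ) (t : ZMod 23), y (some ((2 : ZMod 23) ^ j * t)) = y (some t) := by
    intro j t
    induction j with
    | zero => rw [pow_zero, one_mul]
    | succ n ih => rw [pow_succ', mul_assoc]; exact (hy _).trans ih
  funext p
  cases p with
  | none => rfl
  | some t =>
    by_cases ht : t = 0
    · subst ht; rfl
    rcases orbit_rep t ht with ⟨hc, e⟩ | ⟨hc, e⟩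
    · simp only [fv, hc, Matrix.cons_val]
      conv_lhs => rw [e, ← mul_one ((2 : ZMod 23) ^ lg t), hj]
    · simp only [fv, hc, Matrix.cons_val]
      conv_lhs => rw [e, hj]

theorem cls_card : (univ.filter fun p => cls p = 0).card = 1 ∧ (univ.filter fun p => cls p = 1).card = 1 ∧
    (univ.filter fun p => cls p = 2).card = 11 ∧ (univ.filter fun p => cls p = 3).card = 11 := by
  decide +kernel

theorem sum_cls (f : Fin 4 → ℤ) : ∑ p, f (cls p) = f 0 + f 1 + 11 * f 2 + 11 * f 3 := by
  rw [← sum_fiberwise univ cls, Fin.sum_univ_four]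
  have e : ∀ k, ∑ p ∈ univ.filter (fun p => cls p = k), f (cls p) =
      ((univ.filter fun p => cls p = k).card : ℤ) * f k := fun k => by
    rw [sum_congr rfl (g := fun _ => f k) fun p hp => by rw [(mem_filter.1 hp).2], sum_const, nsmul_eq_mul]
  rw [e, e, e, e, cls_card.1, cls_card.2.1, cls_card.2.2.1, cls_card.2.2.2]
  push_cast
  ring

theorem u2_cls : ∀ p, negVec p = fv (-3) 1 1 1 p := by decide +kernel

/-- The check of the candidates. -/
def candOk (a b q n : ℤ) : Bool :=
  !(decide (a ^ 2 + b ^ 2 + 11 * q ^ 2 + 11 * n ^ 2 = 64) && decide (-3 * a + b + 11 * q + 11 * n = -24) &&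
      inLat (fv a b q n)) ||
    decide ((a, b, q, n) = (8, 0, 0, 0)) || decide ((a, b, q, n) = (2, 4, 0, -2))

theorem cand_table : ((List.range 17).all fun a => (List.range 17).all fun b =>
    (List.range 5).all fun q => (List.range 5).all fun n =>
      candOk ((a : ℤ) - 8) ((b : ℤ) - 8) ((q : ℤ) - 2) ((n : ℤ) - 2)) = true := by decide +kernel

theorem fv_frame : ∀ p, ((frame none : leechLattice) : Vec) p = fv 8 0 0 0 p := by decide +kernel

theorem fv_moved : ∀ p, cFun ((frame none : leechLattice) : Vec) p = fv 2 4 0 (-2) p := by decide +kernel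

theorem fixed_vectors {y : leechLattice} (hy : permHom bM • y = y) (hn : sqNorm (y : Vec) = 64)
    (hd : dotInt (u2 : Vec) (y : Vec) = -24) : y = frame none ∨ y = cEl • frame none := by
  have hinv : ∀ p, (y : Vec) (mulFun 2 p) = (y : Vec) p := fun p => by
    conv_lhs => rw [← hy]
    rw [permHom_smul]
    show (y : Vec) (double⁻¹ (double p)) = _
    simp
  have he := eq_fv hinv
  set a := (y : Vec) none
  set b := (y : Vec) (some 0)
  set q := (y : Vec) (some 1)
  set n := (y : Vec) (some 5)
  rw [he] at hn hd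
  have hn' : a ^ 2 + b ^ 2 + 11 * q ^ 2 + 11 * n ^ 2 = 64 := by
    have h := (sum_cls fun k => ![a, b, q, n] k ^ 2).symm.trans hn
    simpa [Matrix.cons_val] using h
  have hd' : -3 * a + b + 11 * q + 11 * n = -24 := by
    have e : dotInt (u2 : Vec) (fv a b q n) = ∑ p, ![(-3 : ℤ), 1, 1, 1] (cls p) * ![a, b, q, n] (cls p) :=
      sum_congr rfl fun p _ => by
        show negVec p * fv a b q n p = _
        rw [u2_cls]
        rfl
    rw [e, sum_cls fun k => ![(-3 : ℤ), 1, 1, 1] k * ![a, b, q, n] k] at hd
    simpa [Matrix.cons_val] using hd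
  have ha : -8 ≤ a ∧ a ≤ 8 := by constructor <;> nlinarith [sq_nonneg b, sq_nonneg q, sq_nonneg n]
  have hb : -8 ≤ b ∧ b ≤ 8 := by constructor <;> nlinarith [sq_nonneg a, sq_nonneg q, sq_nonneg n]
  have hq : -2 ≤ q ∧ q ≤ 2 := by constructor <;> nlinarith [sq_nonneg a, sq_nonneg b, sq_nonneg n]
  have hn2 : -2 ≤ n ∧ n ≤ 2 := by constructor <;> nlinarith [sq_nonneg a, sq_nonneg b, sq_nonneg q]
  have h := cand_table
  simp only [List.all_eq_true, List.mem_range] at h
  have h' := h (a + 8).toNat (by omega) (b + 8).toNat (by omega) (q + 2).toNat (by omega) (n + 2).toNat (by omega)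
  rw [Int.toNat_of_nonneg (by omega), Int.toNat_of_nonneg (by omega), Int.toNat_of_nonneg (by omega),
    Int.toNat_of_nonneg (by omega)] at h'
  simp only [add_sub_cancel_right, candOk] at h'
  have hl : inLat (fv a b q n) = true := inLat_of_mem (he ▸ y.2)
  simp only [hn', hd', hl, decide_true, Bool.and_self, Bool.not_true, Bool.false_or, Bool.or_eq_true,
    decide_eq_true_eq, Prod.mk.injEq] at h'
  rcases h' with ⟨ea, eb, eq', en⟩ | ⟨ea, eb, eq', en⟩
  · left
    refine Subtype.ext (funext fun p => ?_)
    rw [he, ea, eb, eq', en, fv_frame]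
  · right
    refine Subtype.ext (funext fun p => ?_)
    rw [he, ea, eb, eq', en, cEl_smul, fv_moved]

/-! ### Permutations fixing the extra point and normalising the doubling -/

/-- The candidate permutation. -/
def cand (k u w : ZMod 23) : GolayPt → GolayPt
  | none => none
  | some t => if t = 0 then some 0 else
    if (2 : ZMod 23) ^ lg t = t then some (k ^ lg t * u) else some (k ^ lg t * w)

/-- Sending code words to code words. -/
def candCode (k u w : ZMod 23) : Bool :=
  Cfsg.Agent.Golay.Basic.basisMasks.all fun m => isCode (mask ((maskSet m).image (cand k u w)))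

theorem table_two : ∀ u w : ZMod 23, candCode 2 u w = true →
    ∃ j < 11, ∀ p, cand 2 u w p = mulFun ((2 : ZMod 23) ^ j) p := by decide +kernel

theorem table_inv : ∀ u w : ZMod 23, candCode 12 u w = false := by decide +kernel

theorem fixed_zero : ∀ x : ZMod 23, ∀ k ∈ [(2 : ZMod 23), 12], k * x = x → x = 0 := by decide +kernel

theorem shape {π : M24} {k : ZMod 23} (hk : k ∈ [(2 : ZMod 23), 12])
    (hn : (π : Equiv.Perm GolayPt) none = none)
    (hc : ∀ p, (π : Equiv.Perm GolayPt) (mulFun 2 p) = mulFun k ((π : Equiv.Perm GolayPt) p)) :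
    ∃ u w : ZMod 23, candCode k u w = true ∧ ∀ p, (π : Equiv.Perm GolayPt) p = cand k u w p := by
  have hsome : ∀ t, ∃ s, (π : Equiv.Perm GolayPt) (some t) = some s := fun t => by
    cases h : (π : Equiv.Perm GolayPt) (some t) with
    | some s => exact ⟨s, rfl⟩
    | none => exact absurd ((π : Equiv.Perm GolayPt).injective (h.trans hn.symm)) (Option.some_ne_none t)
  obtain ⟨z, hz⟩ := hsome 0
  obtain ⟨u, hu⟩ := hsome 1
  obtain ⟨w, hw⟩ := hsome 5
  have hz0 : z = 0 := by
    have h := hc (some 0)
    rw [hz, show mulFun 2 (some 0 : GolayPt) = some 0 by decide, hz] at h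
    exact fixed_zero z k hk (Option.some.inj h).symm
  have hpow : ∀ (j : ℕ) (t s : ZMod 23), (π : Equiv.Perm GolayPt) (some t) = some s →
      (π : Equiv.Perm GolayPt) (some ((2 : ZMod 23) ^ j * t)) = some (k ^ j * s) := by
    intro j t s hs
    induction j with
    | zero => rw [pow_zero, one_mul, pow_zero, one_mul, hs]
    | succ n ih =>
      have h := hc (some ((2 : ZMod 23) ^ n * t))
      rw [ih] at h
      rw [pow_succ', mul_assoc, pow_succ', mul_assoc]
      exact h
  have hp : ∀ p, (π : Equiv.Perm GolayPt) p = cand k u w p := by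
    intro p
    cases p with
    | none => exact hn
    | some t =>
      by_cases ht : t = 0
      · subst ht; rw [hz, hz0]; rfl
      rcases orbit_rep t ht with ⟨hcl, e⟩ | ⟨hcl, e⟩
      · simp only [cand, if_neg ht, if_pos e.symm]
        conv_lhs => rw [e, ← mul_one ((2 : ZMod 23) ^ lg t), hpow _ _ _ hu]
      · have hne : ¬ (2 : ZMod 23) ^ lg t = t := fun h => by
          simp only [cls, if_neg ht, if_pos h] at hcl
          exact absurd hcl (by decide)
        simp only [cand, if_neg ht, if_neg hne]
        conv_lhs => rw [e, hpow _ _ _ hw]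
  refine ⟨u, w, List.all_eq_true.2 fun m hm => mem_supports_iff.1 ?_, hp⟩
  have hmem := smul_mem_supports π.2 (show maskSet m ∈ Cfsg.Agent.Leech.Basic.codeSets from
    mem_supports_iff.2 (by revert m; decide +kernel))
  rw [smul_finset_def, image_congr fun p _ => hp p] at hmem
  exact hmem

theorem perm_of_fix {c : Co0} (hc : c • u2 = u2) (hf : c • frame none = frame none) :
    ∃ π : M24, c = permHom π ∧ (π : Equiv.Perm GolayPt) none = none := by
  obtain ⟨p, rfl⟩ := exists_mono c (fixesCross_of_fix hf)
  have hn : (p.1 : Equiv.Perm GolayPt) none = none := by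
    by_contra hne
    have e := congrArg (fun z : leechLattice => (z : Vec) ((p.1 : Equiv.Perm GolayPt) none)) hf
    simp only [mono_frame, frame_coe, Pi.single_eq_same, Pi.single_eq_of_ne hne] at e
    split_ifs at e <;> omega
  refine ⟨p.1, ?_, hn⟩
  refine ext' fun v => Subtype.ext (funext fun q => ?_)
  have e := congrArg (fun z : leechLattice => (z : Vec) q) hc
  simp only [mono_smul, signedPerm] at e
  have hu' : (u2 : Vec) ((p.1 : Equiv.Perm GolayPt).symm q) = (u2 : Vec) q := by
    show (if _ then (-3 : ℤ) else 1) = if _ then (-3 : ℤ) else 1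
    by_cases hq : q = none
    · rw [if_pos hq, if_pos (by rw [hq, Equiv.symm_apply_eq, hn])]
    · rw [if_neg hq, if_neg fun h => hq (by rw [Equiv.symm_apply_eq, hn] at h; exact h)]
  have hne0 : (u2 : Vec) q ≠ 0 := by
    show (if _ then (-3 : ℤ) else 1) ≠ 0
    split_ifs <;> norm_num
  have hq : q ∉ p.2.1 := fun h => by rw [if_pos h, hu'] at e; omega
  rw [permHom_smul, mono_smul, signedPerm, if_neg hq]
  rfl

theorem mul_apply_perm {π π' σ : M24} (h : π * σ = π' * π) (p : GolayPt) :
    (π : Equiv.Perm GolayPt) ((σ : Equiv.Perm GolayPt) p) =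
      (π' : Equiv.Perm GolayPt) ((π : Equiv.Perm GolayPt) p) := by
  have := congrArg (fun z : M24 => (z : Equiv.Perm GolayPt) p) h
  simpa using this

/-- The centraliser of the doubling. -/
theorem centralizer_B {x : G2} (hx : x * gB = gB * x) : x ∈ Subgroup.zpowers gB := by
  have hxc : (x : Co0) * permHom bM = permHom bM * (x : Co0) := congrArg Subtype.val hx
  have hxu : (x : Co0) • u2 = u2 := MulAction.mem_stabilizer_iff.1 x.2
  have hbf : permHom bM • frame none = frame none := by
    refine Subtype.ext (lst_injective ?_)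
    rw [lst_permHom, lst_frame]
    decide +kernel
  rcases fixed_vectors (y := (x : Co0) • frame none) (by rw [← mul_smul, ← hxc, mul_smul, hbf])
      ((sqNorm_smul _ _).trans (sqNorm_frame none))
      (by
        conv_lhs => rw [← hxu]
        rw [dot_smul]
        show dotInt negVec _ = _
        rw [frame_coe]
        decide +kernel) with h | h
  · obtain ⟨π, he, hn⟩ := perm_of_fix hxu h
    rw [he, ← map_mul, ← map_mul] at hxc
    obtain ⟨u, w, hok, hp⟩ := shape (π := π) (k := 2) (by simp) hn fun p => by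
      exact mul_apply_perm (permHom_injective hxc) p
    obtain ⟨j, -, hj⟩ := table_two u w hok
    refine Subgroup.mem_zpowers_iff.2 ⟨j, Subtype.ext ?_⟩
    rw [zpow_natCast, Subgroup.coe_pow, he]
    show permHom bM ^ j = _
    rw [← map_pow]
    refine congrArg permHom (Subtype.ext (Equiv.ext fun p => ?_))
    show (double ^ j) p = (π : Equiv.Perm GolayPt) p
    rw [double_pow, hp, hj]
  · exfalso
    have hcu : cEl • u2 = u2 := cEl_fix
    have hcc : cEl * cEl = 1 := congrArg Subtype.val rel_CC
    have hd : (cEl * (x : Co0)) • u2 = u2 := by rw [mul_smul, hxu, hcu]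
    have hdf : (cEl * (x : Co0)) • frame none = frame none := by
      rw [mul_smul, h, ← mul_smul, hcc, one_smul]
    obtain ⟨π, he, hn⟩ := perm_of_fix hd hdf
    have hcb : cEl * permHom bM = permHom bM⁻¹ * cEl := by
      have h' : cEl * permHom bM * cEl⁻¹ = (permHom bM)⁻¹ := congrArg Subtype.val rel_CB
      rw [← map_inv] at h'
      exact mul_inv_eq_iff_eq_mul.1 h'
    have hdb : permHom π * permHom bM = permHom bM⁻¹ * permHom π := by
      rw [← he, mul_assoc, hxc, ← mul_assoc, hcb, mul_assoc]
    rw [← map_mul, ← map_mul] at hdb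
    obtain ⟨u, w, hok, -⟩ := shape (π := π) (k := 12) (by simp) hn fun p => by
      exact mul_apply_perm (permHom_injective hdb) p
    rw [table_inv] at hok
    exact Bool.false_ne_true hok

end Cfsg.Agent.Co2Out.Local
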