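import Mathlib.Init

/-!
The matrix of an involution of the lattice inverting an element of order 11, and a permutation.
-/

set_option autoImplicit false

namespace Cfsg.Agent.Co2Out.Data

/-- Eight times the matrix: the images of the coordinate frame. -/
def rows : List (List Int) :=
  [[-2, 2, 2, 2, 2, 0, 2, 0, 2, 2, 0, 0, 2, 2, 0, 0, 2, 0, 2, 0, 0, 0, 0, 4],
   [2, -2, -2, 2, -2, 0, 2, 0, 2, 2, 0, 0, 2, -2, 0, 0, -2, 0, 2, 0, 0, 0, 4, 0],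
   [2, -2, -2, 2, 2, 0, 2, 0, -2, 2, 0, 4, -2, 2, 0, 0, 2, 0, -2, 0, 0, 0, 0, 0],
   [2, 2, 2, 2, 2, 0, 2, 0, -2, -2, 0, 0, -2, -2, 0, 4, -2, 0, 2, 0, 0, 0, 0, 0],
   [2, -2, 2, 2, -2, 0, -2, 0, 2, -2, 0, 0, -2, 2, 0, 0, 2, 4, 2, 0, 0, 0, 0, 0],
   [0, 0, 0, 0, 0, -2, 0, 2, 0, 4, -2, -2, 0, 0, 2, 2, 0, 2, 0, -2, -2, 2, -2, -2],
   [2, 2, 2, 2, -2, 0, -2, 0, -2, 2, 0, 0, 2, 2, 0, 0, -2, 0, -2, 4, 0, 0, 0, 0],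
   [0, 0, 0, 0, 0, 2, 0, -2, 0, 0, 2, -2, 0, 4, 2, 2, 0, -2, 0, -2, -2, -2, 2, -2],
   [2, 2, -2, -2, 2, 0, -2, 0, 2, 2, 0, 0, -2, 2, 0, 0, -2, 0, 2, 0, 4, 0, 0, 0],
   [2, 2, 2, -2, -2, 4, 2, 0, 2, 2, 0, 0, -2, -2, 0, 0, 2, 0, -2, 0, 0, 0, 0, 0],
   [0, 0, 0, 0, 0, -2, 0, 2, 0, 0, -2, -2, 0, 0, -2, 2, 4, -2, 0, 2, 2, -2, 2, -2],
   [0, 0, 4, 0, 0, -2, 0, -2, 0, 0, -2, 2, 0, 0, 2, -2, 0, -2, 0, -2, 2, 2, 2, -2],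
   [2, 2, -2, -2, -2, 0, 2, 0, -2, -2, 0, 0, 2, 2, 0, 0, 2, 0, 2, 0, 0, 4, 0, 0],
   [2, -2, 2, -2, 2, 0, 2, 4, 2, -2, 0, 0, 2, 2, 0, 0, -2, 0, -2, 0, 0, 0, 0, 0],
   [0, 0, 0, 0, 0, 2, 0, 2, 0, 0, -2, 2, 0, 0, 2, -2, 0, -2, 4, 2, -2, -2, -2, -2],
   [0, 0, 0, 4, 0, 2, 0, 2, 0, 0, 2, -2, 0, 0, -2, -2, 0, -2, 0, -2, 2, 2, -2, -2],
   [2, -2, 2, -2, 2, 0, -2, 0, -2, 2, 4, 0, 2, -2, 0, 0, 2, 0, 2, 0, 0, 0, 0, 0],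
   [0, 0, 0, 0, 4, 2, 0, -2, 0, 0, -2, -2, 0, 0, -2, -2, 0, 2, 0, 2, -2, 2, 2, -2],
   [2, 2, -2, 2, 2, 0, -2, 0, 2, -2, 0, 0, 2, -2, 4, 0, 2, 0, -2, 0, 0, 0, 0, 0],
   [0, 0, 0, 0, 0, -2, 4, -2, 0, 0, 2, -2, 0, 0, 2, -2, 0, 2, 0, 2, 2, -2, -2, -2],
   [0, 0, 0, 0, 0, -2, 0, -2, 4, 0, 2, 2, 0, 0, -2, 2, 0, -2, 0, 2, -2, 2, -2, -2],
   [0, 0, 0, 0, 0, 2, 0, -2, 0, 0, -2, 2, 4, 0, -2, 2, 0, 2, 0, -2, 2, -2, -2, -2],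
   [0, 4, 0, 0, 0, -2, 0, 2, 0, 0, 2, 2, 0, 0, -2, -2, 0, 2, 0, -2, -2, -2, 2, -2],
   [4, 0, 0, 0, 0, -2, 0, -2, 0, 0, -2, -2, 0, 0, -2, -2, 0, -2, 0, -2, -2, -2, -2, 2]]

/-- A permutation of the points of order 5. -/
def piList : List Nat :=
  [11, 12, 20, 0, 4, 5, 22, 9, 19, 3, 13, 7, 2, 6, 15, 8, 14, 17, 10, 16, 21, 1, 18, 23]

/-- The word of the permutation. -/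
def piWord : List Nat := [4, 1, 1, 1, 4, 0, 3, 0, 4, 1, 2, 1, 4, 1, 4]

end Cfsg.Agent.Co2Out.Data
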