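import Cfsg.Agent.Lib.LeechAut.Conway23
import Cfsg.Agent.Lib.Co2Out.Data

/-!
Elements of the stabiliser of a minimal vector: the translation, the doubling, an involution
inverting the doubling, and lists to compute their action.
-/

set_option autoImplicit false
set_option maxRecDepth 20000

namespace Cfsg.Agent.Co2Out.Elements

open scoped Pointwise
open Cfsg Cfsg.Agent.Golay.Basic Cfsg.Agent.Golay.M24 Cfsg.Agent.Golay.Design Cfsg.Agent.Leech.Basic
  Cfsg.Agent.Leech.Gen Cfsg.Agent.Leech.Index
  Cfsg.Agent.LeechAut.Gens Cfsg.Agent.LeechAut.Basic Cfsg.Agent.LeechAut.Cross Cfsg.Agent.LeechAut.Conway23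
  Cfsg.Agent.LeechAut.Co1 Finset

/-! ### The matrix -/

/-- The entries. -/
def M (p q : GolayPt) : ℤ := (Data.rows.getD (ix p) []).getD (ix q) 0

/-- Eight times the image. -/
def nu (x : Vec) : Vec := fun q => ∑ p, x p * M p q

/-- The image. -/
def cFun (x : Vec) : Vec := fun q => nu x q / 8

theorem nu_add (x y : Vec) : nu (x + y) = nu x + nu y := by
  funext q
  simp [nu, add_mul, sum_add_distrib]

theorem nu_zero : nu 0 = 0 := by
  funext q
  simp [nu]

theorem nu_neg (x : Vec) : nu (-x) = -nu x := by
  funext q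
  simp [nu, neg_mul, sum_neg_distrib]

theorem square : ∀ p p', ∑ q, M p q * M p' q = if p = p' then 64 else 0 := by decide +kernel

theorem square' : ∀ p p', ∑ q, M p q * M q p' = if p = p' then 64 else 0 := by decide +kernel

theorem good {x : Vec} (hx : x ∈ leechLattice) : (∀ q, (8 : ℤ) ∣ nu x q) ∧ cFun x ∈ leechLattice := by
  let K : AddSubgroup Vec :=
    { carrier := {x | (∀ q, (8 : ℤ) ∣ nu x q) ∧ cFun x ∈ leechLattice}
      zero_mem' := by
        refine ⟨fun q => by rw [nu_zero]; exact dvd_zero _, ?_⟩
        have : cFun 0 = 0 := by funext q; simp [cFun, nu_zero]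
        rw [this]
        exact zero_mem _
      add_mem' := fun {a b} ha hb => by
        refine ⟨fun q => by rw [nu_add]; exact dvd_add (ha.1 q) (hb.1 q), ?_⟩
        have : cFun (a + b) = cFun a + cFun b := by
          funext q
          simp only [cFun, nu_add, Pi.add_apply]
          exact Int.add_ediv_of_dvd_left (ha.1 q)
        rw [this]
        exact add_mem ha.2 hb.2
      neg_mem' := fun {a} ha => by
        refine ⟨fun q => by rw [nu_neg]; exact dvd_neg.2 (ha.1 q), ?_⟩
        have : cFun (-a) = -cFun a := by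
          funext q
          simp only [cFun, nu_neg, Pi.neg_apply]
          exact Int.neg_ediv_of_dvd (ha.1 q)
        rw [this]
        exact neg_mem ha.2 }
  have key : ∀ v : Vec, (∀ q, nu v q % 8 = 0) → inLat (cFun v) = true → v ∈ K :=
    fun v h h' => ⟨fun q => Int.dvd_of_emod_eq_zero (h q), mem_of_inLat h'⟩
  have h1 : (∀ q, nu oddVec q % 8 = 0) ∧ inLat (cFun oddVec) = true := by decide +kernel
  have h2 : ∀ i : GolayPt, i ≠ none → ∀ t ∈ [(1 : ℤ), -1],
      (∀ q, nu (pairVec i t) q % 8 = 0) ∧ inLat (cFun (pairVec i t)) = true := by decide +kernel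
  have h3 : ∀ b ∈ basisMasks,
      (∀ q, nu (twoInd (maskSet b)) q % 8 = 0) ∧ inLat (cFun (twoInd (maskSet b))) = true := by
    decide +kernel
  exact le_of_gens K (key _ h1.1 h1.2) (fun i hi t ht => key _ (h2 i hi t ht).1 (h2 i hi t ht).2)
    (fun b hb => key _ (h3 b hb).1 (h3 b hb).2) hx

theorem eight_cFun {x : Vec} (hx : x ∈ leechLattice) (q : GolayPt) : 8 * cFun x q = nu x q := by
  obtain ⟨k, hk⟩ := (good hx).1 q
  simp only [cFun, hk]
  omega

theorem cFun_add {x y : Vec} (hx : x ∈ leechLattice) : cFun (x + y) = cFun x + cFun y := by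
  funext q
  simp only [cFun, nu_add, Pi.add_apply]
  exact Int.add_ediv_of_dvd_left ((good hx).1 q)

theorem cFun_cFun {x : Vec} (hx : x ∈ leechLattice) : cFun (cFun x) = x := by
  funext q
  have h : 8 * nu (cFun x) q = 64 * x q := by
    have e1 : 8 * nu (cFun x) q = ∑ p, ∑ r, x r * (M r p * M p q) := by
      simp only [nu, mul_sum]
      refine sum_congr rfl fun p _ => ?_
      rw [← mul_assoc, eight_cFun hx, nu, sum_mul]
      exact sum_congr rfl fun r _ => by rw [mul_assoc]
    rw [e1, sum_comm]
    simp only [← mul_sum, square', mul_ite, mul_zero, sum_ite_eq', mem_univ, if_true]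
    ring
  show nu (cFun x) q / 8 = x q
  omega

theorem sqNorm_cFun {x : Vec} (hx : x ∈ leechLattice) : sqNorm (cFun x) = sqNorm x := by
  have h : 64 * sqNorm (cFun x) = 64 * sqNorm x := by
    simp only [sqNorm, mul_sum]
    have e1 : ∀ q, 64 * cFun x q ^ 2 = ∑ p, ∑ r, x p * x r * (M p q * M r q) := fun q => by
      rw [show 64 * cFun x q ^ 2 = (8 * cFun x q) * (8 * cFun x q) by ring, eight_cFun hx, nu, sum_mul_sum]
      exact sum_congr rfl fun p _ => sum_congr rfl fun r _ => by ring
    rw [sum_congr rfl fun q _ => e1 q, sum_comm]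
    refine sum_congr rfl fun p _ => ?_
    rw [sum_comm]
    simp only [← mul_sum, square, mul_ite, mul_zero, sum_ite_eq, mem_univ, if_true]
    ring
  exact mul_left_cancel₀ (by norm_num) h

/-- The involution. -/
def cEl : Co0 :=
  mk (fun v => ⟨cFun v, (good v.2).2⟩) (fun v => ⟨cFun v, (good v.2).2⟩)
    (fun v => Subtype.ext (cFun_cFun v.2)) (fun v => Subtype.ext (cFun_cFun v.2))
    (fun v _ => Subtype.ext (cFun_add v.2)) (fun v => sqNorm_cFun v.2)

theorem cEl_smul (v : leechLattice) : ((cEl • v : leechLattice) : Vec) = cFun (v : Vec) := rfl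

/-! ### The permutations -/

theorem double_inv : ∀ p : GolayPt, mulFun 12 (mulFun 2 p) = p := by decide

theorem double_inv' : ∀ p : GolayPt, mulFun 2 (mulFun 12 p) = p := by decide

/-- Doubling. -/
def double : Equiv.Perm GolayPt := ⟨mulFun 2, mulFun 12, double_inv, double_inv'⟩

theorem double_mem : double ∈ M24 := mem_M24_of_basis (by
  have h : ∀ b ∈ basisMasks, isCode (mask (double • maskSet b)) = true := by decide +kernel
  exact fun b hb => mem_supports_iff.2 (h b hb))

/-- The table of the permutation. -/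
def piFun (p : GolayPt) : GolayPt := pt (Data.piList.getD (ix p) 0)

/-- Its inverse. -/
def piInv (p : GolayPt) : GolayPt := pt (Data.piList.idxOf (ix p))

theorem pi_inv : ∀ p : GolayPt, piInv (piFun p) = p := by decide +kernel

theorem pi_inv' : ∀ p : GolayPt, piFun (piInv p) = p := by decide +kernel

/-- A permutation of order 5. -/
def piPerm : Equiv.Perm GolayPt := ⟨piFun, piInv, pi_inv, pi_inv'⟩

theorem piPerm_mem : piPerm ∈ M24 := mem_M24_of_basis (by
  have h : ∀ b ∈ basisMasks, isCode (mask (piPerm • maskSet b)) = true := by decide +kernel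
  exact fun b hb => mem_supports_iff.2 (h b hb))

/-- The translation. -/
def aM : M24 := tau

/-- The doubling. -/
def bM : M24 := ⟨double, double_mem⟩

/-- The permutation of order 5. -/
def piM : M24 := ⟨piPerm, piPerm_mem⟩

/-! ### The group -/

/-- The group. -/
abbrev G2 : Subgroup Co0 := MulAction.stabilizer Co0 u2

theorem u2_none : (u2 : Vec) none = -3 := rfl

theorem permHom_fix2 {σ : M24} (h : (σ : Equiv.Perm GolayPt) none = none) : permHom σ • u2 = u2 := by
  refine Subtype.ext (funext fun i => ?_)
  rw [permHom_smul]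
  show (if (σ : Equiv.Perm GolayPt)⁻¹ i = none then (-3 : ℤ) else 1) = if i = none then (-3 : ℤ) else 1
  by_cases hi : i = none
  · rw [if_pos hi, if_pos]
    rw [hi, Equiv.Perm.inv_eq_iff_eq, h]
  · rw [if_neg hi, if_neg]
    intro e
    rw [Equiv.Perm.inv_eq_iff_eq, h] at e
    exact hi e

theorem cEl_fix : cEl • u2 = u2 := by
  refine Subtype.ext ?_
  rw [cEl_smul]
  have h : ∀ q, cFun negVec q = negVec q := by decide +kernel
  exact funext h

/-- The element of order 23. -/
def gA : G2 := gen flat2

/-- The element of order 11. -/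
def gB : G2 := ⟨permHom bM, MulAction.mem_stabilizer_iff.2 (permHom_fix2 rfl)⟩

/-- The involution. -/
def gC : G2 := ⟨cEl, MulAction.mem_stabilizer_iff.2 cEl_fix⟩

/-- The permutation of order 5. -/
def gP : G2 := ⟨permHom piM, MulAction.mem_stabilizer_iff.2 (permHom_fix2 (by decide +kernel))⟩

/-! ### Lists -/

/-- Substituting the coordinates of a list. -/
def permL (inv : List ℕ) (l : List ℤ) : List ℤ := inv.map fun j => l.getD j 0

/-- The positions giving the inverse of a permutation. -/
def invList (σ : M24) : List ℕ := (List.range 24).map fun i => ix ((σ : Equiv.Perm GolayPt)⁻¹ (pt i))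

theorem lst_permHom (σ : M24) (v : leechLattice) :
    lst ((permHom σ • v : leechLattice) : Vec) = permL (invList σ) (lst (v : Vec)) := by
  rw [invList, permL, List.map_map]
  show (List.range 24).map _ = _
  refine List.map_congr_left fun i _ => ?_
  simp only [Function.comp_apply, getD_lst]
  exact permHom_smul σ v (pt i)

/-- The dot product of two lists. -/
def dotL : List ℤ → List ℤ → ℤ
  | a :: as, b :: bs => a * b + dotL as bs
  | _, _ => 0

/-- The columns, which are the rows. -/
def cols : List (List ℤ) := Data.rows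

theorem cols_eq : cols = (List.range 24).map fun q => (List.range 24).map fun p => M (pt p) (pt q) := by
  decide +kernel

theorem dotL_map (f g : ℕ → ℤ) : ∀ L : List ℕ, dotL (L.map f) (L.map g) = (L.map fun i => f i * g i).sum
  | [] => rfl
  | a :: as => by simp [dotL, dotL_map f g as]

/-- The image of a list. -/
def cL (l : List ℤ) : List ℤ := cols.map fun col => dotL l col / 8

theorem lst_cEl (v : leechLattice) :
    lst ((cEl • v : leechLattice) : Vec) = cL (lst (v : Vec)) := by
  rw [cL, cols_eq, List.map_map]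
  refine List.map_congr_left fun i _ => ?_
  show nu (v : Vec) (pt i) / 8 = _
  simp only [Function.comp_apply, lst, dotL_map]
  congr 1
  rw [nu, ← List.sum_toFinset _ List.nodup_range, List.toFinset_range]
  exact Finset.sum_bij' (fun p _ => ix p) (fun j _ => pt j) (fun p _ => mem_range.2 (ix_lt p))
    (fun j _ => mem_univ _) (fun p _ => pt_ix p) (fun j hj => ix_pt (mem_range.1 hj))
    (fun p _ => by rw [pt_ix])

/-- The letters: `0`, `1` the translation and its inverse, `2`, `3` the doubling and its inverse,
`4` the involution, `5` the permutation of order 5. -/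
def gl : ℕ → G2
  | 0 => gA
  | 1 => gA⁻¹
  | 2 => gB
  | 3 => gB⁻¹
  | 5 => gP
  | _ => gC

/-- The translation, backwards. -/
def posA : List ℕ := [22, 0, 1, 2, 3, 4, 5, 6, 7, 8, 9, 10, 11, 12, 13, 14, 15, 16, 17, 18, 19, 20, 21, 23]

/-- The translation. -/
def posA' : List ℕ := [1, 2, 3, 4, 5, 6, 7, 8, 9, 10, 11, 12, 13, 14, 15, 16, 17, 18, 19, 20, 21, 22, 0, 23]

/-- The doubling, backwards. -/
def posB : List ℕ := [0, 12, 1, 13, 2, 14, 3, 15, 4, 16, 5, 17, 6, 18, 7, 19, 8, 20, 9, 21, 10, 22, 11, 23]

/-- The doubling. -/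
def posB' : List ℕ := [0, 2, 4, 6, 8, 10, 12, 14, 16, 18, 20, 22, 1, 3, 5, 7, 9, 11, 13, 15, 17, 19, 21, 23]

/-- The permutation of order 5, backwards. -/
def posP : List ℕ := [3, 21, 12, 9, 4, 5, 13, 11, 15, 7, 18, 0, 1, 10, 16, 14, 19, 17, 22, 8, 2, 20, 6, 23]

theorem pos_eq : invList aM = posA ∧ invList aM⁻¹ = posA' ∧ invList bM = posB ∧ invList bM⁻¹ = posB' ∧
    invList piM = posP := by decide +kernel

/-- The action of a letter on lists. -/
def al : ℕ → List ℤ → List ℤ
  | 0 => permL posA
  | 1 => permL posA'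
  | 2 => permL posB
  | 3 => permL posB'
  | 5 => permL posP
  | _ => cL

theorem lst_gl : ∀ (k : ℕ) (v : leechLattice),
    lst (((gl k : Co0) • v : leechLattice) : Vec) = al k (lst (v : Vec)) := by
  intro k v
  match k with
  | 0 => exact (lst_permHom aM v).trans (congrArg (fun L => permL L (lst (v : Vec))) pos_eq.1)
  | 1 =>
    show lst ((((gA : Co0))⁻¹ • v : leechLattice) : Vec) = _
    rw [show ((gA : Co0))⁻¹ = permHom aM⁻¹ from (map_inv permHom aM).symm]
    exact (lst_permHom _ v).trans (congrArg (fun L => permL L (lst (v : Vec))) pos_eq.2.1)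
  | 2 => exact (lst_permHom bM v).trans (congrArg (fun L => permL L (lst (v : Vec))) pos_eq.2.2.1)
  | 3 =>
    show lst ((((gB : Co0))⁻¹ • v : leechLattice) : Vec) = _
    rw [show ((gB : Co0))⁻¹ = permHom bM⁻¹ from (map_inv permHom bM).symm]
    exact (lst_permHom _ v).trans (congrArg (fun L => permL L (lst (v : Vec))) pos_eq.2.2.2.1)
  | 4 => exact lst_cEl v
  | 5 => exact (lst_permHom piM v).trans (congrArg (fun L => permL L (lst (v : Vec))) pos_eq.2.2.2.2)
  | n + 6 => exact lst_cEl v

/-- The product of a word. -/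
def wordEl (w : List ℕ) : G2 := (w.map gl).prod

/-- The action of a word on lists. -/
def wordL (w : List ℕ) (l : List ℤ) : List ℤ := w.foldr al l

theorem lst_wordEl (v : leechLattice) : ∀ w : List ℕ,
    lst (((wordEl w : Co0) • v : leechLattice) : Vec) = wordL w (lst (v : Vec))
  | [] => by simp [wordEl, wordL]
  | k :: w => by
    rw [show wordEl (k :: w) = gl k * wordEl w from List.prod_cons, Subgroup.coe_mul, mul_smul,
      lst_gl, lst_wordEl v w]
    rfl

/-- The frame, as lists. -/
def frameL (i : ℕ) : List ℤ := (List.range 24).map fun j => if j = i then 8 else 0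

theorem lst_frame : ∀ p, lst ((frame p : leechLattice) : Vec) = frameL (ix p) := by decide +kernel

theorem eq_one_of_frames {g : Co0} (h : ∀ i, g • frame i = frame i) : g = 1 := by
  refine ext' fun v => ?_
  rw [one_smul]
  have e := congrArg (actHom g) (eight_smul v)
  simp only [map_zsmul, map_sum, actHom_apply, h] at e
  rw [← eight_smul] at e
  refine Subtype.ext (funext fun i => ?_)
  have := congrArg (fun w : leechLattice => (w : Vec) i) e
  simp only [AddSubgroup.coe_zsmul, Pi.smul_apply, smul_eq_mul] at this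
  omega

/-- Equality of two elements, checked on the frame. -/
theorem word_eq {w w' : List ℕ}
    (h : ∀ i < 24, wordL w (frameL i) = wordL w' (frameL i)) : wordEl w = wordEl w' := by
  refine Subtype.ext ?_
  rw [← inv_mul_eq_one]
  refine eq_one_of_frames fun p => ?_
  rw [mul_smul, inv_smul_eq_iff]
  refine Subtype.ext (lst_injective ?_)
  rw [lst_wordEl, lst_wordEl, lst_frame, h _ (ix_lt p)]

/-- A word moving a vector of the frame. -/
theorem word_ne {w : List ℕ} {i : ℕ} (hi : i < 24)
    (h : (wordL w (frameL i) == frameL i) = false) : wordEl w ≠ 1 := by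
  intro e
  have h' := lst_wordEl (frame (pt i)) w
  rw [e, Subgroup.coe_one, one_smul, lst_frame, ix_pt hi] at h'
  rw [← h'] at h
  simp at h

end Cfsg.Agent.Co2Out.Elements
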