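import Cfsg.Agent.Lib.Co2Out.Generate
import Cfsg.Agent.Lib.Co2Out.Chains
import Cfsg.Prelude.Def_Spor_Conway
import Cfsg.Prelude.Def_KGroupFacts

/-!
Every automorphism of the second Conway group is inner.
-/

set_option autoImplicit false
set_option maxRecDepth 20000

namespace Cfsg.Agent.Co2Out.Main

open Cfsg Cfsg.Agent.Co2Out.Elements Cfsg.Agent.Co2Out.Local Cfsg.Agent.Co2Out.Generate
  Cfsg.Agent.Co2Out.Chains

theorem map_seg {δ : MulAut G2} {m : ℕ} (hA : δ gA = gA ^ m) (hC : δ gC = gC) (ns : List ℕ) :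
    δ (segEl 1 ns) = segEl m ns := by
  rw [segEl, segEl, map_list_prod, List.map_map]
  congr 1
  refine List.map_congr_left fun n _ => ?_
  simp only [Function.comp_apply, map_mul, map_pow, hA, hC, mul_one, ← pow_mul, mul_comm m n]

theorem fix_A {δ : MulAut G2} {m : ℕ} (hm : m < 23) (hA : δ gA = gA ^ m) (hC : δ gC = gC) : m = 1 := by
  by_contra hne
  have hm0 : m ≠ 0 := by
    rintro rfl
    rw [pow_zero, ← map_one δ] at hA
    have h := order_A
    rw [δ.injective hA, orderOf_one] at h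
    norm_num at h
  rcases fails m (by omega) hm with h | h <;> apply h
  · rw [← map_seg hA hC, ← map_pow, rel1, map_one]
  · rw [← map_seg hA hC, ← map_pow, rel2, map_one]

theorem B_zpow_A (z : ℤ) : gB * gA ^ z = gA ^ (2 * z) * gB := by
  have h : gB * gA ^ z * gB⁻¹ = gA ^ (2 * z) := by
    rw [← conj_zpow, rel_BA, ← zpow_natCast, ← zpow_mul]
    rfl
  exact mul_inv_eq_iff_eq_mul.1 h

theorem C_zpow_B (z : ℤ) : gC * gB ^ z = gB ^ (-z) * gC := by
  have h : gC * gB ^ z * gC⁻¹ = gB ^ (-z) := by rw [← conj_zpow, rel_CB, inv_zpow, zpow_neg]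
  exact mul_inv_eq_iff_eq_mul.1 h

theorem two_pow_one : ∀ j : Fin 11, (2 : ZMod 23) ^ j.1 = 2 → j.1 = 1 := by decide +kernel

theorem B_pow_A (j : ℕ) (z : ℤ) : gB ^ j * gA ^ z = gA ^ ((2 : ℤ) ^ j * z) * gB ^ j := by
  induction j with
  | zero => simp
  | succ n ih => rw [pow_succ', mul_assoc, ih, ← mul_assoc, B_zpow_A, mul_assoc, ← pow_succ', ← mul_assoc,
      ← pow_succ']

/-- An automorphism, moved to one fixing the three elements up to a power. -/
theorem normalise (α : MulAut G2) : ∃ g : G2, ∃ m < 23,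
    (MulAut.conj g * α) gA = gA ^ m ∧ (MulAut.conj g * α) gB = gB ∧ (MulAut.conj g * α) gC = gC := by
  classical
  haveI := finite_G2
  have h23 : ¬ 23 ^ 2 ∣ Nat.card G2 := by rw [card_G2]; norm_num
  obtain ⟨h, i, hi⟩ := Cfsg.Agent.LeechAut.Crit23.exists_conj order_A h23 (x := α gA)
    (by rw [MulEquiv.orderOf_eq, order_A])
  set β : MulAut G2 := MulAut.conj h * α with hβ
  have hle : Subgroup.zpowers gA ≤ Subgroup.zpowers (β gA) := by
    rw [Subgroup.zpowers_le]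
    refine Subgroup.mem_zpowers_iff.2 ⟨i, ?_⟩
    show (h * α gA * h⁻¹) ^ i = gA
    rw [conj_zpow, hi]
  have hβA : β gA ∈ Subgroup.zpowers gA := by
    rw [Subgroup.eq_of_le_of_card_ge hle (by
      rw [Nat.card_zpowers, Nat.card_zpowers, MulEquiv.orderOf_eq])]
    exact Subgroup.mem_zpowers _
  obtain ⟨k, hk⟩ := Subgroup.mem_zpowers_iff.1 hβA
  have hrel : β gB * gA ^ k * (β gB)⁻¹ = gA ^ (2 * k) := by
    rw [hk, ← map_inv, ← map_mul, ← map_mul, rel_BA, map_pow, ← hk, ← zpow_natCast, ← zpow_mul, mul_comm]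
    rfl
  have hnorm : β gB * gA * (β gB)⁻¹ ∈ Subgroup.zpowers gA := by
    obtain ⟨l, hl⟩ := Subgroup.mem_zpowers_iff.1 (hle (Subgroup.mem_zpowers gA))
    rw [← hk, ← zpow_mul] at hl
    have h2 : (β gB * gA ^ k * (β gB)⁻¹) ^ l = β gB * gA * (β gB)⁻¹ := by
      rw [conj_zpow, ← zpow_mul, hl]
    rw [← h2, hrel]
    exact Subgroup.zpow_mem _ (Subgroup.zpow_mem _ (Subgroup.mem_zpowers gA) _) _
  obtain ⟨a, b, hab⟩ := normalizer_A hnorm
  have hb : (b : ℕ) = 1 := by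
    apply two_pow_one b
    have e : gA ^ ((2 : ℤ) ^ (b : ℕ) * k) = gA ^ (2 * k) := by
      rw [← hrel, hab, mul_inv_rev, mul_assoc (gA ^ (a : ℕ)), B_pow_A, ← mul_assoc (gA ^ (a : ℕ)),
        ← zpow_natCast gA (a : ℕ), ← zpow_add, add_comm, zpow_add]
      group
    rw [zpow_eq_zpow_iff_modEq, order_A, ← ZMod.intCast_eq_intCast_iff] at e
    push_cast at e
    have hk0 : ((k : ℤ) : ZMod 23) ≠ 0 := by
      intro h0
      rw [ZMod.intCast_zmod_eq_zero_iff_dvd] at h0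
      obtain ⟨c, rfl⟩ := h0
      have h1 : gA ^ (((23 : ℕ) : ℤ) * c) = 1 := by
        rw [zpow_mul, zpow_natCast, ← order_A, pow_orderOf_eq_one, one_zpow]
      rw [h1] at hk
      have h' := order_A
      rw [← MulEquiv.orderOf_eq β, ← hk, orderOf_one] at h'
      norm_num at h'
    haveI : Fact (Nat.Prime 23) := ⟨by norm_num⟩
    exact mul_right_cancel₀ hk0 e
  rw [hb, pow_one] at hab
  set γ : MulAut G2 := MulAut.conj (gA ^ (a : ℕ)) * β with hγ
  have hγA : γ gA = gA ^ k := by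
    show gA ^ (a : ℕ) * β gA * (gA ^ (a : ℕ))⁻¹ = _
    rw [← hk, ← zpow_natCast, ← zpow_add, ← zpow_neg, ← zpow_add]
    congr 1
    ring
  have hγB : γ gB = gB := by
    show gA ^ (a : ℕ) * β gB * (gA ^ (a : ℕ))⁻¹ = _
    rw [hab, ← zpow_natCast, ← zpow_neg, mul_assoc, mul_assoc, B_zpow_A, ← mul_assoc, ← mul_assoc,
      ← zpow_add, ← zpow_add, show ((a : ℕ) : ℤ) + ((a : ℕ) : ℤ) + 2 * -((a : ℕ) : ℤ) = 0 by ring,
      zpow_zero, one_mul]
  have hcomm : gC * γ gC * gB = gB * (gC * γ gC) := by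
    have h1 : γ gC * gB = gB⁻¹ * γ gC := by
      have e := congrArg γ (mul_inv_eq_iff_eq_mul.1 rel_CB)
      rwa [map_mul, map_mul, map_inv, hγB] at e
    have h2 : gC * gB⁻¹ = gB * gC := by simpa using C_zpow_B (-1)
    rw [mul_assoc, h1, ← mul_assoc, h2, mul_assoc]
  obtain ⟨z, hz⟩ := Subgroup.mem_zpowers_iff.1 (centralizer_B hcomm)
  have hγC : γ gC = gC * gB ^ z := by
    rw [hz, ← mul_assoc, rel_CC, one_mul]
  refine ⟨gB ^ (6 * z) * (gA ^ (a : ℕ) * h), ?_⟩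
  rw [map_mul, map_mul, mul_assoc, mul_assoc, ← hβ, ← hγ]
  have hmem : (MulAut.conj (gB ^ (6 * z)) * γ) gA ∈ Subgroup.zpowers gA := by
    obtain ⟨j, hj⟩ := mem_powers_iff_mem_zpowers.2
      (Subgroup.zpow_mem _ (Subgroup.mem_zpowers gB) (6 * z))
    show gB ^ (6 * z) * γ gA * (gB ^ (6 * z))⁻¹ ∈ _
    rw [hγA, ← show gB ^ j = gB ^ (6 * z) from hj, B_pow_A, mul_assoc, mul_inv_cancel, mul_one]
    exact Subgroup.zpow_mem _ (Subgroup.mem_zpowers gA) _
  obtain ⟨m, hm⟩ := mem_powers_iff_mem_zpowers.2 hmem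
  refine ⟨m % 23, Nat.mod_lt _ (by norm_num), ?_, ?_, ?_⟩
  · have h' : gA ^ (m % 23) = gA ^ m :=
      (congrArg (fun k => gA ^ (m % k)) order_A).symm.trans (pow_mod_orderOf gA m)
    exact (h'.trans hm).symm
  · show gB ^ (6 * z) * γ gB * (gB ^ (6 * z))⁻¹ = gB
    rw [hγB, mul_inv_eq_iff_eq_mul]
    exact ((Commute.refl gB).zpow_left _).eq
  · show gB ^ (6 * z) * γ gC * (gB ^ (6 * z))⁻¹ = gC
    rw [hγC, ← mul_assoc (gB ^ (6 * z)), show gB ^ (6 * z) * gC = gC * gB ^ (-(6 * z)) by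
      rw [C_zpow_B, neg_neg], ← zpow_neg, mul_assoc, mul_assoc, ← zpow_add, ← zpow_add]
    have h11 : gB ^ (-(6 * z) + (z + -(6 * z))) = 1 := by
      rw [← orderOf_dvd_iff_zpow_eq_one, order_B]
      exact ⟨-z, by ring⟩
    rw [h11, mul_one]

theorem conj_surjective : Function.Surjective (MulAut.conj : G2 →* MulAut G2) := by
  intro α
  obtain ⟨g, m, hm, hA, hB, hC⟩ := normalise α
  obtain rfl := fix_A hm hA hC
  rw [pow_one] at hA
  let F : Subgroup G2 :=
    { carrier := {x | (MulAut.conj g * α) x = x}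
      one_mem' := map_one _
      mul_mem' := fun {x y} (hx : _ = _) (hy : _ = _) => by
        show (MulAut.conj g * α) (x * y) = x * y
        rw [map_mul, hx, hy]
      inv_mem' := fun {x} (hx : _ = _) => by
        show (MulAut.conj g * α) x⁻¹ = x⁻¹
        rw [map_inv, hx] }
  have hF := eq_top F hA hB hC
  refine ⟨g⁻¹, ?_⟩
  have h1 : MulAut.conj g * α = 1 := MulEquiv.ext fun x => (hF ▸ Subgroup.mem_top x : x ∈ F)
  rw [map_inv]
  exact inv_eq_of_mul_eq_one_right h1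

theorem card_out : Nat.card (Cfsg.Out ↥Cfsg.Spor.Co2) = 1 := by
  obtain ⟨k, hk⟩ := Cfsg.Agent.LeechAut.Shells.transitive32 Cfsg.Spor.leechU
    Cfsg.Agent.LeechAut.Conway23.u2 (by decide +kernel) Cfsg.Agent.LeechAut.Conway23.norm2
  obtain ⟨E1⟩ := Cfsg.Agent.LeechAut.Conway23.stab_equiv hk
  let E0 : ↥Cfsg.Spor.Co2 ≃* MulAction.stabilizer Co0 Cfsg.Spor.leechU :=
    { toFun := fun a => ⟨⟨a.1, a.2.1⟩, a.2.2⟩
      invFun := fun a => ⟨a.1.1, a.1.2, a.2⟩
      left_inv := fun _ => rfl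
      right_inv := fun _ => rfl
      map_mul' := fun _ _ => rfl }
  let E : ↥Cfsg.Spor.Co2 ≃* G2 := E0.trans E1
  have htop : Cfsg.Inn ↥Cfsg.Spor.Co2 = ⊤ := by
    rw [eq_top_iff]
    intro α _
    obtain ⟨g, hg⟩ := conj_surjective (MulAut.congr E α)
    refine ⟨E.symm g, MulEquiv.ext fun x => E.injective ?_⟩
    have h := congrArg (fun f : MulAut G2 => f (E x)) hg
    simp only [MulAut.conj_apply] at h ⊢
    rw [map_mul, map_mul, map_inv, E.apply_symm_apply, h]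
    show E (α (E.symm (E x))) = E (α x)
    rw [E.symm_apply_apply]
  have h := Subgroup.card_eq_card_quotient_mul_card_subgroup (Cfsg.Inn ↥Cfsg.Spor.Co2)
  haveI : Finite (MulAut G2) := by haveI := finite_G2; infer_instance
  haveI : Finite (MulAut ↥Cfsg.Spor.Co2) := Finite.of_equiv _ (MulAut.congr E).symm.toEquiv
  rw [htop, Subgroup.card_top] at h
  show Nat.card (MulAut ↥Cfsg.Spor.Co2 ⧸ Cfsg.Inn ↥Cfsg.Spor.Co2) = 1
  rw [htop]
  exact (Nat.mul_eq_right (Nat.card_pos (α := MulAut ↥Cfsg.Spor.Co2)).ne').1 h.symm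

end Cfsg.Agent.Co2Out.Main
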